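import Groth.Agent.EtIntegral.StalkFinite
import Groth.Agent.EtPushStalk.Unit
import Mathlib

/-!
Base change for direct images along finite morphisms.
-/

set_option autoImplicit false
universe u

open CategoryTheory CategoryTheory.Limits AlgebraicGeometry Opposite

set_option backward.isDefEq.respectTransparency false

namespace Groth.Agent.EtIntegral

theorem covers_algClosed (X : Scheme.{u}) :
    Groth.Agent.EtStalk.Covers (X := X) fun Ω _ _ _ => IsAlgClosed Ω := fun s =>
  ⟨AlgebraicClosure (X.residueField s), inferInstance, inferInstance,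
    Spec.map (CommRingCat.ofHom (algebraMap (X.residueField s) _)) ≫ X.fromSpecResidueField s,
    inferInstanceAs (IsAlgClosed (AlgebraicClosure (X.residueField s))), X.fromSpecResidueField_apply s _⟩

theorem isIso_of_algClosed {X : Scheme.{u}} {F G : EtCoh.Ab X} (a : F ⟶ G)
    (h : ∀ (Ω : Type u) [Field Ω] [IsSepClosed Ω] [IsAlgClosed Ω] (ξ : Spec (CommRingCat.of Ω) ⟶ X),
      Function.Bijective ((EtCoh.stalk ξ).map a)) : IsIso a := by
  have : Presheaf.IsLocallyInjective X.smallEtaleTopology a.hom :=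
    Groth.Agent.EtStalk.isLocallyInjective_of_covers _ (covers_algClosed X) fun Ω _ _ ξ hΩ =>
      haveI := hΩ; (h Ω ξ).1
  have : Sheaf.IsLocallySurjective a :=
    Groth.Agent.EtStalk.isLocallySurjective_of_covers _ (covers_algClosed X) fun Ω _ _ ξ hΩ =>
      haveI := hΩ; (h Ω ξ).2
  have : Mono a := Sheaf.mono_of_isLocallyInjective a
  have : Epi a := inferInstance
  exact isIso_of_mono_of_epi a

/-- The germ of a pulled back section. -/
theorem stalkPullIso_germ {T S : Scheme.{u}} (f : T ⟶ S) {Ω : Type u} [Field Ω] [IsSepClosed Ω]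
    (ξ : Spec (CommRingCat.of Ω) ⟶ T) (F : EtCoh.Ab S) (V : S.Etale)
    (v : Over.mk (ξ ≫ f) ⟶ (Scheme.Etale.forget S).obj V) (t : EtCoh.sect F V) :
    (Groth.Agent.EtStalk.stalkPullIso f ξ).hom.app F
      ((Scheme.pointSmallEtale (ξ ≫ f)).toPresheafFiber V v F.obj t) =
      (Scheme.pointSmallEtale ξ).toPresheafFiber ((EtCoh.bc f).obj V) (Groth.Agent.EtPushStalk.up f ξ v)
        ((EtCoh.pull f).obj F).obj (((EtCoh.pullPushAdj f).unit.app F).hom.app (op V) t) := by
  rw [Groth.Agent.EtPushStalk.stalkPullIso_hom_eq f ξ F,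
    ← Groth.Agent.EtPushStalk.stalkPushHom_germ ξ ((EtCoh.pull f).obj F) V v]
  refine congrArg (Groth.Agent.EtPushStalk.stalkPushHom f ξ ((EtCoh.pull f).obj F)) ?_
  exact GrothendieckTopology.Point.toPresheafFiber_naturality_apply (Scheme.pointSmallEtale (ξ ≫ f))
      ((EtCoh.pullPushAdj f).unit.app F).hom V v t

theorem pullbackComp_left_fst {X Y Z : Scheme.{u}} (a : X ⟶ Y) (b : Y ⟶ Z) (V : Z.Etale) :
    ((MorphismProperty.Over.pullbackComp (P := EtCoh.etaleMP) (Q := ⊤) a b).hom.app V).left ≫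
      pullback.fst (pullback.snd V.hom b) a ≫ pullback.fst V.hom b = pullback.fst V.hom (a ≫ b) :=
  MorphismProperty.Over.pullbackComp_left_fst_fst a b V

variable {X Y X' Y' : Scheme.{u}} (f : X ⟶ Y) (g : Y' ⟶ Y) (f' : X' ⟶ Y') (g' : X' ⟶ X)
  (w : g' ≫ f = f' ≫ g)

/-- the comparison of iterated base changes -/
noncomputable def bcSwap (V : Y.Etale) :
    (EtCoh.bc f').obj ((EtCoh.bc g).obj V) ⟶ (EtCoh.bc g').obj ((EtCoh.bc f).obj V) :=
  (MorphismProperty.Over.pullbackComp (P := EtCoh.etaleMP) (Q := ⊤) f' g).inv.app V ≫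
    (MorphismProperty.Over.pullbackCongr (P := EtCoh.etaleMP) (Q := ⊤) w).inv.app V ≫
      (MorphismProperty.Over.pullbackComp (P := EtCoh.etaleMP) (Q := ⊤) g' f).hom.app V

theorem bcSwap_fst (V : Y.Etale) :
    (bcSwap f g f' g' w V).left ≫ pullback.fst (pullback.snd V.hom f) g' ≫ pullback.fst V.hom f =
      pullback.fst (pullback.snd V.hom g) f' ≫ pullback.fst V.hom g := by
  let I₁ := (MorphismProperty.Over.pullbackComp (P := EtCoh.etaleMP) (Q := ⊤) f' g).app V
  let I₂ := (MorphismProperty.Over.pullbackCongr (P := EtCoh.etaleMP) (Q := ⊤) w).app V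
  have h2 : I₂.inv.left ≫ pullback.fst V.hom (g' ≫ f) = pullback.fst V.hom (f' ≫ g) := by
    rw [← MorphismProperty.Over.pullbackCongr_hom_app_left_fst w V, ← Category.assoc]
    change (I₂.inv ≫ I₂.hom).left ≫ _ = _
    rw [I₂.inv_hom_id]
    exact Category.id_comp _
  have h1 : I₁.inv.left ≫ pullback.fst V.hom (f' ≫ g) =
      pullback.fst (pullback.snd V.hom g) f' ≫ pullback.fst V.hom g := by
    rw [← pullbackComp_left_fst f' g V, ← Category.assoc]
    change (I₁.inv ≫ I₁.hom).left ≫ _ = _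
    rw [I₁.inv_hom_id]
    exact Category.id_comp _
  change (I₁.inv.left ≫ I₂.inv.left ≫ _) ≫ _ = _
  simp only [Category.assoc]
  erw [pullbackComp_left_fst g' f V, h2, h1]

theorem baseChange0_unit (F : EtCoh.Ab X) (V : Y.Etale) (t : EtCoh.sect ((EtCoh.push f).obj F) V) :
    (EtCoh.baseChange0 f g f' g' w F).hom.app (op ((EtCoh.bc g).obj V))
        (((EtCoh.pullPushAdj g).unit.app ((EtCoh.push f).obj F)).hom.app (op V) t) =
      ((EtCoh.pull g').obj F).obj.map (bcSwap f g f' g' w V).op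
        (((EtCoh.pullPushAdj g').unit.app F).hom.app (op ((EtCoh.bc f).obj V)) t) := by
  have h := ((EtCoh.pullPushAdj g).homEquiv_unit (f := EtCoh.baseChange0 f g f' g' w F)).symm
  rw [EtCoh.baseChange0, Equiv.apply_symm_apply] at h
  refine (ConcreteCategory.congr_hom (congrArg (fun m : (EtCoh.push f).obj F ⟶ (EtCoh.push g).obj ((EtCoh.push f').obj ((EtCoh.pull g').obj F)) => m.hom.app (op V)) h) t).trans ?_
  simp only [bcSwap, op_comp, Functor.map_comp, ConcreteCategory.comp_apply]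
  rfl

variable [IsFinite f] [IsFinite f']

theorem isIso_baseChange0 (h : IsPullback g' f' f g) (F : EtCoh.Ab X) :
    IsIso (EtCoh.baseChange0 f g f' g' h.w F) := by
  refine isIso_of_algClosed _ fun Ω _ _ _ ζ => ?_
  let bcm := (EtCoh.stalk ζ).map (EtCoh.baseChange0 f g f' g' h.w F)
  let down : Lifts f' ζ → Lifts f (ζ ≫ g) := fun ξ' => ⟨ξ'.1 ≫ g', by
    rw [Category.assoc, h.w, ← Category.assoc, ξ'.2]⟩
  have hdown : Function.Bijective down := by
    refine ⟨fun a b hab => Subtype.ext (h.hom_ext (congrArg Subtype.val hab) (a.2.trans b.2.symm)),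
      fun ξ => ⟨⟨h.lift ξ.1 ζ ξ.2, h.lift_snd _ _ _⟩, Subtype.ext (h.lift_fst _ _ _)⟩⟩
  let e := (Groth.Agent.EtStalk.stalkPullIso g ζ).hom.app ((EtCoh.push f).obj F)
  have he : Function.Bijective e := (ConcreteCategory.isIso_iff_bijective _).mp inferInstance
  have key : ∀ (ξ' : Lifts f' ζ) z, stalkPushLift f' ζ ((EtCoh.pull g').obj F) ξ' (bcm (e z)) =
      (Groth.Agent.EtStalk.stalkPullIso g' ξ'.1).hom.app F (stalkPushLift f (ζ ≫ g) F (down ξ') z) := by
    intro ξ' z
    obtain ⟨V, v, t, rfl⟩ := (Scheme.pointSmallEtale (ζ ≫ g)).toPresheafFiber_jointly_surjective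
      (P := ((EtCoh.push f).obj F).obj) z
    rw [stalkPushLift_germ, stalkPullIso_germ, stalkPullIso_germ]
    refine (congrArg (stalkPushLift f' ζ ((EtCoh.pull g').obj F) ξ')
      (GrothendieckTopology.Point.toPresheafFiber_naturality_apply (Scheme.pointSmallEtale ζ)
        (EtCoh.baseChange0 f g f' g' h.w F).hom _ _ _)).trans ?_
    rw [baseChange0_unit, stalkPushLift_germ]
    refine (GrothendieckTopology.Point.toPresheafFiber_w_apply (Scheme.pointSmallEtale ξ'.1)
      (bcSwap f g f' g' h.w V) _ ((EtCoh.pull g').obj F).obj _).trans ?_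
    congr 3
    refine Over.OverMorphism.ext ?_
    let V' : Y'.Etale := (EtCoh.bc g).obj V
    let vl : Spec (CommRingCat.of Ω) ⟶ V.left := (v : Over.mk (ζ ≫ g) ⟶ (Scheme.Etale.forget Y).obj V).left
    have hvl : vl ≫ V.hom = ζ ≫ g := Over.w (v : Over.mk (ζ ≫ g) ⟶ (Scheme.Etale.forget Y).obj V)
    have h1 : ξ'.1 ≫ f' = ζ := ξ'.2
    change pullback.lift (pullback.lift vl ζ hvl) ξ'.1 ((pullback.lift_snd _ _ _).trans h1.symm) ≫ (bcSwap f g f' g' h.w V).left =
      pullback.lift (pullback.lift vl (ξ'.1 ≫ g') (hvl.trans (down ξ').2.symm)) ξ'.1 (pullback.lift_snd _ _ _)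
    have hsnd : (bcSwap f g f' g' h.w V).left ≫ pullback.snd (pullback.snd V.hom f) g' =
        pullback.snd (pullback.snd V.hom g) f' := MorphismProperty.Over.w (bcSwap f g f' g' h.w V)
    apply pullback.hom_ext
    · apply pullback.hom_ext
      · simp only [Category.assoc]
        erw [bcSwap_fst f g f' g' h.w V]
        erw [pullback.lift_fst_assoc, pullback.lift_fst_assoc, pullback.lift_fst, pullback.lift_fst]
      · simp only [Category.assoc]
        erw [pullback.condition (f := pullback.snd V.hom f) (g := g'), reassoc_of% hsnd, pullback.lift_snd_assoc,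
          pullback.lift_snd_assoc]
    · erw [Category.assoc, hsnd, pullback.lift_snd, pullback.lift_snd]
  have hB := bijective_stalkPushLifts f (ζ ≫ g) F
  have hB' := bijective_stalkPushLifts f' ζ ((EtCoh.pull g').obj F)
  have hp : ∀ ξ' : Lifts f' ζ, Function.Bijective ((Groth.Agent.EtStalk.stalkPullIso g' ξ'.1).hom.app F) :=
    fun ξ' => (ConcreteCategory.isIso_iff_bijective _).mp inferInstance
  constructor
  · intro z₁ z₂ hz
    obtain ⟨y₁, rfl⟩ := he.2 z₁
    obtain ⟨y₂, rfl⟩ := he.2 z₂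
    refine congrArg e (hB.1 (funext fun ξ => ?_))
    obtain ⟨ξ', rfl⟩ := hdown.2 ξ
    apply (hp ξ').1
    rw [← key, ← key]
    exact congrArg _ hz
  · intro z
    let ψ := Equiv.ofBijective down hdown
    have : ∀ ξ', ∃ y, (Groth.Agent.EtStalk.stalkPullIso g' ξ'.1).hom.app F y =
        stalkPushLift f' ζ ((EtCoh.pull g').obj F) ξ' z := fun ξ' => (hp ξ').2 _
    choose y hy using this
    have htrans : ∀ ξ : Lifts f (ζ ≫ g), (ψ.symm ξ).1 ≫ g' = ξ.1 := fun ξ =>
      congrArg Subtype.val (ψ.apply_symm_apply ξ)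
    let fam : ∀ ξ : Lifts f (ζ ≫ g), ((EtCoh.stalk ξ.1).obj F : AddCommGrpCat.{u + 1}) := fun ξ =>
      (eqToHom (by rw [← htrans ξ]) :
        (EtCoh.stalk (down (ψ.symm ξ)).1).obj F ⟶ (EtCoh.stalk ξ.1).obj F) (y (ψ.symm ξ))
    have hfam : ∀ ξ', fam (down ξ') = y ξ' := by
      have gen : ∀ (a b : Lifts f' ζ) (hab : a = b)
          (e' : (EtCoh.stalk (down a).1).obj F = (EtCoh.stalk (down b).1).obj F),
          eqToHom e' (y a) = y b := by
        rintro a b rfl e'
        rfl
      exact fun ξ' => gen _ _ (ψ.symm_apply_apply ξ') _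
    obtain ⟨s, hs⟩ := hB.2 fam
    refine ⟨e s, hB'.1 (funext fun ξ' => ?_)⟩
    show stalkPushLift f' ζ _ ξ' (bcm (e s)) = _
    rw [key, show stalkPushLift f (ζ ≫ g) F (down ξ') s = fam (down ξ') from congrFun hs (down ξ'), hfam, hy]

end Groth.Agent.EtIntegral
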