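import Groth.Agent.EtIntegral.Scheme
import Groth.Agent.EtStalk.Applications
import Groth.Agent.EtPullExact.Basic
import Groth.Prelude.Def_EtBase
import Mathlib

/-!
Direct image along an integral morphism preserves epimorphisms.
-/

set_option autoImplicit false
universe u

open CategoryTheory CategoryTheory.Limits AlgebraicGeometry Opposite

set_option backward.isDefEq.respectTransparency false

namespace Groth.Agent.EtIntegral

/-- Sections on pairwise disjoint open pieces glue. -/
theorem exists_amalg_disjoint {X : Scheme.{u}} (G : EtCoh.Ab X) {P : X.Etale} {ι : Type u} (Z : ι → X.Etale)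
    (π : ∀ i, Z i ⟶ P) [∀ i, Mono (π i).left]
    (hd : ∀ i j, i ≠ j → ∀ x y, (π i).left x ≠ (π j).left y)
    (hc : ∀ p, ∃ i, p ∈ Set.range (π i).left) (t : ∀ i, EtCoh.sect G (Z i)) :
    ∃ s : EtCoh.sect G P, ∀ i, G.obj.map (π i).op s = t i := by
  have hmem : Sieve.ofArrows Z π ∈ X.smallEtaleTopology P := by
    rw [Scheme.ofArrows_mem_smallEtaleTopology_iff]
    exact Set.eq_univ_of_forall fun p => Set.mem_iUnion.mpr (hc p)
  have hs : Presieve.IsSheafFor (G.obj ⋙ forget AddCommGrpCat.{u + 1}) (Presieve.ofArrows Z π) := by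
    rw [Presieve.isSheafFor_iff_generate]
    exact (isSheaf_iff_isSheaf_of_type _ _).mp
      ((sheafCompose X.smallEtaleTopology (forget AddCommGrpCat.{u + 1})).obj G).property _ hmem
  rw [Presieve.isSheafFor_arrows_iff] at hs
  obtain ⟨s, hs, -⟩ := hs t (fun i k T p q hpq => by
    have hl : p.left ≫ (π i).left = q.left ≫ (π k).left := congrArg (fun m => m.left) hpq
    by_cases hik : i = k
    · subst hik
      rw [MorphismProperty.Over.Hom.ext ((cancel_mono (π i).left).mp hl)]
    · have : IsEmpty T.left := ⟨fun x => hd i k hik _ _ (congr($hl x))⟩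
      have := Groth.Agent.EtStalk.subsingleton_of_isEmpty G T this
      exact Subsingleton.elim (α := G.obj.obj (op T)) _ _)
  exact ⟨s, hs⟩

/-- Two sections equal on a covering family are equal. -/
theorem sect_ext {X : Scheme.{u}} (G : EtCoh.Ab X) {P : X.Etale} {ι : Type u} (Z : ι → X.Etale)
    (π : ∀ i, Z i ⟶ P) (hc : ∀ p, ∃ i, p ∈ Set.range (π i).left) (s s' : EtCoh.sect G P)
    (h : ∀ i, G.obj.map (π i).op s = G.obj.map (π i).op s') : s = s' := by
  rw [← sub_eq_zero]
  refine Groth.Agent.EtSect.eq_zero_of_cover G _ fun p => ?_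
  obtain ⟨i, hi⟩ := hc p
  exact ⟨Z i, π i, hi, by rw [map_sub, h i, sub_self]⟩

/-- An epimorphism is surjective on sections up to a surjective etale family indexed by the points. -/
theorem exists_lift_family {X : Scheme.{u}} {F G : EtCoh.Ab X} (a : F ⟶ G) [Epi a] (P : X.Etale)
    (t : EtCoh.sect G P) :
    ∃ (W : P.left → X.Etale) (g : ∀ x, W x ⟶ P) (y : ∀ x, EtCoh.sect F (W x)),
      (∀ x, x ∈ Set.range (g x).left) ∧ ∀ x, a.hom.app (op (W x)) (y x) = G.obj.map (g x).op t := by
  have hls : Presheaf.IsLocallySurjective X.smallEtaleTopology a.hom :=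
    Groth.Agent.EtStalk.isLocallySurjective_of_stalk _ ((Groth.Agent.EtStalk.epi_iff a).mp inferInstance)
  have hS := hls.imageSieve_mem t
  obtain ⟨α, T, g, hg⟩ := (Presheaf.imageSieve a.hom t).exists_eq_ofArrows
  rw [hg, Scheme.ofArrows_mem_smallEtaleTopology_iff] at hS
  have hx : ∀ x : P.left, ∃ i, x ∈ Set.range (g i).left := fun x => Set.mem_iUnion.mp (hS ▸ Set.mem_univ x)
  choose i hi using hx
  have hy : ∀ x, ∃ y, a.hom.app (op (T (i x))) y = G.obj.map (g (i x)).op t := fun x => by
    have : (Presheaf.imageSieve a.hom t).arrows (g (i x)) := by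
      rw [hg]; exact Sieve.ofArrows_mk _ _ _
    exact this
  choose y hy using hy
  exact ⟨fun x => T (i x), fun x => g (i x), y, hi, hy⟩

theorem push_preservesEpimorphisms {X Y : Scheme.{u}} (f : X ⟶ Y) [IsIntegralHom f] :
    (EtCoh.push f).PreservesEpimorphisms := by
  classical
  refine ⟨fun {F G} a ha => (Groth.Agent.EtStalk.epi_iff _).mpr fun Ω _ _ ξ z => ?_⟩
  obtain ⟨V, v₀, t, rfl⟩ :=
    (Scheme.pointSmallEtale ξ).toPresheafFiber_jointly_surjective (P := ((EtCoh.push f).obj G).obj) z
  let v : Over.mk ξ ⟶ (Scheme.Etale.forget Y).obj V := v₀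
  let P : X.Etale := (EtCoh.bc f).obj V
  obtain ⟨W, g, y, hsurj, hy⟩ := exists_lift_family a P t
  let fV : P.left ⟶ V.left := pullback.fst V.hom f
  have : IsIntegralHom fV := MorphismProperty.pullback_fst _ _ ‹_›
  let WW : Scheme.{u} := ∐ fun x : P.left => (W x).left
  let q : WW ⟶ P.left := Sigma.desc fun x => (g x).left
  have hq : ∀ x, Sigma.ι (fun x : P.left => (W x).left) x ≫ q = (g x).left := fun x => Sigma.ι_desc _ _
  have : Etale q := IsZariskiLocalAtSource.sigmaDesc fun x => Groth.Agent.EtSect.etale_left (g x)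
  obtain ⟨V', p, hp, v', hv', s, hs⟩ := exists_section_nhd fV q v.left (fun x _ => by
    obtain ⟨w, hw⟩ := hsurj x
    exact ⟨Sigma.ι (fun x : P.left => (W x).left) x w, by rw [← Scheme.Hom.comp_apply, hq]; exact hw⟩)
  have := V.prop
  let V'' : Y.Etale := Scheme.Etale.mk (p ≫ V.hom)
  let b : V'' ⟶ V := MorphismProperty.Over.homMk p rfl
  let v'' : Over.mk ξ ⟶ (Scheme.Etale.forget Y).obj V'' := Over.homMk v' (by
    change v' ≫ p ≫ V.hom = ξ
    rw [← Category.assoc, hv']
    exact Over.w v)
  let P' : X.Etale := (EtCoh.bc f).obj V''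
  let sq := (EtCoh.isPullback_bc_map f b).flip
  let k : P'.left ⟶ WW := sq.isoPullback.hom ≫ s
  have hk : k ≫ q = ((EtCoh.bc f).map b).left := by
    rw [Category.assoc, hs]
    exact sq.isoPullback_hom_snd
  have := P'.prop
  let O : P.left → P'.left.Opens := fun x =>
    k ⁻¹ᵁ (Sigma.ι (fun x : P.left => (W x).left) x).opensRange
  let Z : P.left → X.Etale := fun x => Scheme.Etale.mk ((O x).ι ≫ P'.hom)
  let π : ∀ x, Z x ⟶ P' := fun x => MorphismProperty.Over.homMk (O x).ι rfl
  let l : ∀ x, (Z x).left ⟶ (W x).left := fun x =>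
    IsOpenImmersion.lift (Sigma.ι (fun x : P.left => (W x).left) x) ((O x).ι ≫ k) (by
      rintro _ ⟨z, rfl⟩; exact z.2)
  have hl : ∀ x, l x ≫ (g x).left = (O x).ι ≫ ((EtCoh.bc f).map b).left := fun x => by
    rw [← hq, ← Category.assoc, IsOpenImmersion.lift_fac, Category.assoc, hk]
  let L : ∀ x, Z x ⟶ W x := fun x => MorphismProperty.Over.homMk (l x) (by
    change l x ≫ (W x).hom = (O x).ι ≫ P'.hom
    rw [← MorphismProperty.Over.w (g x), reassoc_of% (hl x), MorphismProperty.Over.w])
  have hL : ∀ x, L x ≫ g x = π x ≫ (EtCoh.bc f).map b := fun x => MorphismProperty.Over.Hom.ext (hl x)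
  have : ∀ x, Mono (π x).left := fun x => inferInstanceAs (Mono (O x).ι)
  have hc : ∀ c, ∃ x, c ∈ Set.range (π x).left := fun c => by
    obtain ⟨x, w, hw⟩ := (sigmaOpenCover fun x : P.left => (W x).left).exists_eq (k c)
    exact ⟨x, (⟨c, ⟨w, hw⟩⟩ : O x), rfl⟩
  obtain ⟨r, hr⟩ := exists_amalg_disjoint F Z π (fun i j hij c d hcd => by
      let c' : (O i).toScheme := c
      let d' : (O j).toScheme := d
      have h1 : c'.1 = d'.1 := hcd
      obtain ⟨a₁, h₁⟩ := c'.2
      obtain ⟨a₂, h₂⟩ := d'.2
      exact hij (congrArg Sigma.fst ((sigmaι_eq_iff (fun x : P.left => (W x).left) i j a₁ a₂).mp ((h₁.trans (congrArg k h1)).trans h₂.symm))))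
    hc (fun x => F.obj.map (L x).op (y x))
  have har : a.hom.app (op P') r = G.obj.map ((EtCoh.bc f).map b).op t := by
    refine sect_ext G Z π hc _ _ fun x => ?_
    rw [← NatTrans.naturality_apply, hr, NatTrans.naturality_apply, hy,
      ← ConcreteCategory.comp_apply, ← Functor.map_comp, ← op_comp, hL, op_comp, Functor.map_comp]
    rfl
  refine ⟨(Scheme.pointSmallEtale ξ).toPresheafFiber V'' v'' ((EtCoh.push f).obj F).obj r, ?_⟩
  change (Scheme.pointSmallEtale ξ).presheafFiber.map ((EtCoh.push f).map a).hom _ = _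
  rw [GrothendieckTopology.Point.toPresheafFiber_naturality_apply]
  refine (congrArg _ har).trans ?_
  refine (GrothendieckTopology.Point.toPresheafFiber_w_apply (Scheme.pointSmallEtale ξ) b v''
    ((EtCoh.push f).obj G).obj t).trans ?_
  congr 3
  exact Over.OverMorphism.ext hv'

theorem push_preservesFiniteColimits {X Y : Scheme.{u}} (f : X ⟶ Y) [IsIntegralHom f] :
    PreservesFiniteColimits (EtCoh.push f) := by
  have : PreservesFiniteLimits (EtCoh.push f) :=
    haveI : (EtCoh.push f).IsRightAdjoint := (EtCoh.pullPushAdj f).isRightAdjoint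
    inferInstance
  have := push_preservesEpimorphisms f
  have := (EtCoh.push f).preservesHomology_of_preservesEpis_and_kernels
  exact Functor.preservesFiniteColimits_of_preservesHomology _

theorem Rpush_succ_isZero {X Y : Scheme.{u}} (f : X ⟶ Y) [IsIntegralHom f] (F : EtCoh.Ab X) (n : ℕ) :
    IsZero ((EtCoh.Rpush f (n+1)).obj F) := by
  have : PreservesFiniteLimits (EtCoh.push f) :=
    haveI : (EtCoh.push f).IsRightAdjoint := (EtCoh.pullPushAdj f).isRightAdjoint
    inferInstance
  have := push_preservesEpimorphisms f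
  have := (EtCoh.push f).preservesHomology_of_preservesEpis_and_kernels
  let P : InjectiveResolution F := InjectiveResolution.of F
  refine IsZero.of_iso ?_ (P.isoRightDerivedObj (EtCoh.push f) (n+1))
  change IsZero ((((EtCoh.push f).mapHomologicalComplex _).obj P.cocomplex).homology (n+1))
  rw [← HomologicalComplex.exactAt_iff_isZero_homology]
  exact (P.cocomplex_exactAt_succ n).map (EtCoh.push f)

end Groth.Agent.EtIntegral
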