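import Groth.Agent.EtIntegral.Push
import Groth.Agent.EtPushStalk.Basic
import Mathlib

/-!
The stalk of a direct image along a finite morphism at a geometric point.
-/

set_option autoImplicit false
set_option linter.style.haveILetI false
universe u

open CategoryTheory CategoryTheory.Limits AlgebraicGeometry Opposite TensorProduct

set_option backward.isDefEq.respectTransparency false

namespace Groth.Agent.EtIntegral

/-- lifts of a geometric point -/
abbrev Lifts {X Y : Scheme.{u}} (f : X ⟶ Y) {Ω : Type u} [Field Ω] (η : Spec (CommRingCat.of Ω) ⟶ Y) : Type u :=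
  {ξ : Spec (CommRingCat.of Ω) ⟶ X // ξ ≫ f = η}

section

variable {X Y : Scheme.{u}} (f : X ⟶ Y) {Ω : Type u} [Field Ω] (η : Spec (CommRingCat.of Ω) ⟶ Y)

theorem finite_lifts [IsFinite f] : Finite (Lifts f η) := by
  obtain ⟨U, hU, hyU, -⟩ := exists_isAffineOpen_mem_and_subset (X := Y)
    (x := η (default : Spec (CommRingCat.of Ω))) (U := ⊤) trivial
  have hA : IsAffineOpen (f ⁻¹ᵁ U) := hU.preimage f
  let φ := f.app U
  have hφ : Spec.map φ ≫ hU.fromSpec = hA.fromSpec ≫ f := by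
    rw [← IsAffineOpen.SpecMap_appLE_fromSpec f hU hA le_rfl]
    simp [φ, Scheme.Hom.appLE]
  obtain ⟨θ, hθ⟩ := Spec.map_surjective (IsOpenImmersion.lift hU.fromSpec η (by
    rintro _ ⟨z, rfl⟩
    rw [hU.range_fromSpec, Subsingleton.elim (α := Spec (CommRingCat.of Ω)) z default]
    exact hyU))
  algebraize [φ.hom]
  letI : Algebra Γ(Y, U) Ω := θ.hom.toAlgebra
  haveI : Module.Finite Γ(Y, U) Γ(X, f ⁻¹ᵁ U) := IsFinite.finite_app f U hU
  haveI := finite_algHom Γ(Y, U) Γ(X, f ⁻¹ᵁ U) Ω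
  refine Finite.of_surjective (fun x : Γ(X, f ⁻¹ᵁ U) →ₐ[Γ(Y, U)] Ω =>
    (⟨Spec.map (CommRingCat.ofHom x.toRingHom) ≫ hA.fromSpec, ?_⟩ : Lifts f η)) ?_
  · rw [Category.assoc, ← hφ, ← Category.assoc, ← Spec.map_comp,
      show φ ≫ CommRingCat.ofHom x.toRingHom = θ from CommRingCat.hom_ext (RingHom.ext x.commutes), hθ,
      IsOpenImmersion.lift_fac]
  · rintro ⟨ξ, hξ⟩
    obtain ⟨x, hx⟩ := Spec.map_surjective (IsOpenImmersion.lift hA.fromSpec ξ (by
      rintro _ ⟨z, rfl⟩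
      rw [hA.range_fromSpec, Subsingleton.elim (α := Spec (CommRingCat.of Ω)) z default]
      show f (ξ default) ∈ U
      rw [← Scheme.Hom.comp_apply, hξ]; exact hyU))
    have hcomm : φ ≫ x = θ := by
      apply Spec.map_injective
      rw [← cancel_mono hU.fromSpec, Spec.map_comp, Category.assoc, hφ, hx, hθ, IsOpenImmersion.lift_fac_assoc,
        IsOpenImmersion.lift_fac, hξ]
    refine ⟨{ toRingHom := x.hom, commutes' := fun r => congr($hcomm r) }, Subtype.ext ?_⟩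
    show Spec.map x ≫ hA.fromSpec = ξ
    rw [hx, IsOpenImmersion.lift_fac]

theorem exists_lift_of_point [IsFinite f] [IsAlgClosed Ω] (x : X)
    (hx : f x = η (default : Spec (CommRingCat.of Ω))) :
    ∃ ξ : Lifts f η, ξ.1 (default : Spec (CommRingCat.of Ω)) = x := by
  obtain ⟨p, hp, -⟩ := Scheme.Pullback.exists_preimage_pullback (f := f) (g := η) x default hx
  let q : pullback f η ⟶ Spec (CommRingCat.of Ω) := pullback.snd f η
  haveI : IsFinite q := MorphismProperty.pullback_snd _ _ ‹_›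
  have hd : _root_.IsDiscrete (Set.univ : Set (pullback f η : Scheme.{u})) := by
    convert q.isDiscrete_preimage_singleton default using 1
    ext z
    simp only [Set.mem_univ, Set.mem_preimage, Set.mem_singleton_iff, true_iff]
    exact Subsingleton.elim (α := Spec (CommRingCat.of Ω)) _ _
  haveI := isDiscrete_univ_iff.mp hd
  refine ⟨⟨pointOfClosedPoint q p (isClosed_discrete _) ≫ pullback.fst f η, ?_⟩, ?_⟩
  · rw [Category.assoc, pullback.condition, ← Category.assoc]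
    exact (congrArg (· ≫ η) (pointOfClosedPoint_comp q p _)).trans (Category.id_comp η)
  · show pullback.fst f η (pointOfClosedPoint q p (isClosed_discrete _) default) = x
    rw [pointOfClosedPoint_apply, hp]

theorem exists_section_pointed [IsFinite f] [IsAlgClosed Ω] {W : Scheme.{u}} (g : W ⟶ X) [Etale g]
    (w : Lifts f η → (Spec (CommRingCat.of Ω) ⟶ W)) (hw : ∀ ξ, w ξ ≫ g = ξ.1) :
    ∃ (V : Scheme.{u}) (p : V ⟶ Y) (_ : Etale p) (v₀ : Spec (CommRingCat.of Ω) ⟶ V) (hv : v₀ ≫ p = η)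
      (s : pullback p f ⟶ W), s ≫ g = pullback.snd p f ∧
        ∀ ξ : Lifts f η, pullback.lift v₀ ξ.1 (hv.trans ξ.2.symm) ≫ s = w ξ := by
  classical
  obtain ⟨U, hU, hyU, -⟩ := exists_isAffineOpen_mem_and_subset (X := Y)
    (x := η (default : Spec (CommRingCat.of Ω))) (U := ⊤) trivial
  have hA : IsAffineOpen (f ⁻¹ᵁ U) := hU.preimage f
  haveI := finite_lifts f η
  have hmem : ∀ ξ : Lifts f η, ∃ O : W.Opens, IsAffineOpen O ∧ O ≤ g ⁻¹ᵁ (f ⁻¹ᵁ U) ∧ w ξ default ∈ O := by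
    intro ξ
    obtain ⟨O, hO, hwO, hle⟩ := exists_isAffineOpen_mem_and_subset (X := W) (x := w ξ default)
      (U := g ⁻¹ᵁ (f ⁻¹ᵁ U)) (show f (g (w ξ default)) ∈ U by
        rw [← Scheme.Hom.comp_apply, ← Scheme.Hom.comp_apply, ← Category.assoc, hw, ξ.2]; exact hyU)
    exact ⟨O, hO, hle, hwO⟩
  choose O hO hle hwO using hmem
  haveI : ∀ ξ, IsAffine (O ξ).toScheme := fun ξ => hO ξ
  let W₁ : Scheme.{u} := ∐ fun ξ => (O ξ).toScheme
  let q : W₁ ⟶ W := Sigma.desc fun ξ => (O ξ).ι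
  have hq : ∀ ξ, Sigma.ι (fun ξ => (O ξ).toScheme) ξ ≫ q = (O ξ).ι := fun ξ => Sigma.ι_desc _ _
  haveI : Etale q := IsZariskiLocalAtSource.sigmaDesc fun ξ => inferInstanceAs (Etale (O ξ).ι)
  let w₁ : Lifts f η → (Spec (CommRingCat.of Ω) ⟶ W₁) := fun ξ =>
    IsOpenImmersion.lift (O ξ).ι (w ξ) (by
      rintro _ ⟨z, rfl⟩
      rw [Scheme.Opens.range_ι, Subsingleton.elim (α := Spec (CommRingCat.of Ω)) z default]
      exact hwO ξ) ≫ Sigma.ι (fun ξ => (O ξ).toScheme) ξ
  have hw₁ : ∀ ξ, w₁ ξ ≫ q = w ξ := fun ξ => by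
    rw [Category.assoc, hq, IsOpenImmersion.lift_fac]
  let R := Γ(Y, U)
  let A := Γ(X, f ⁻¹ᵁ U)
  let φ : R ⟶ A := f.app U
  have hφ : Spec.map φ ≫ hU.fromSpec = hA.fromSpec ≫ f := by
    rw [← IsAffineOpen.SpecMap_appLE_fromSpec f hU hA le_rfl]
    simp [φ, Scheme.Hom.appLE]
  let g₂ : W₁ ⟶ Spec A := IsOpenImmersion.lift hA.fromSpec (q ≫ g) (by
    rw [hA.range_fromSpec]
    rintro _ ⟨z, rfl⟩
    obtain ⟨i, c, rfl⟩ := (sigmaOpenCover fun ξ => (O ξ).toScheme).exists_eq z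
    change (q ≫ g) (Sigma.ι (fun ξ => (O ξ).toScheme) i c) ∈ _
    rw [← Scheme.Hom.comp_apply, ← Category.assoc, hq]
    exact hle i c.2)
  have hg₂ : g₂ ≫ hA.fromSpec = q ≫ g := IsOpenImmersion.lift_fac _ _ _
  haveI : Etale g₂ := by
    have : Etale (g₂ ≫ hA.fromSpec) := by rw [hg₂]; infer_instance
    exact Etale.of_comp g₂ hA.fromSpec
  obtain ⟨ψ, hψ⟩ := Spec.map_surjective (W₁.isoSpec.inv ≫ g₂)
  have hψe : Etale (Spec.map ψ) := by rw [hψ]; infer_instance
  obtain ⟨θ, hθ⟩ := Spec.map_surjective (IsOpenImmersion.lift hU.fromSpec η (by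
    rintro _ ⟨z, rfl⟩
    rw [hU.range_fromSpec, Subsingleton.elim (α := Spec (CommRingCat.of Ω)) z default]
    exact hyU))
  have hθ' : Spec.map θ ≫ hU.fromSpec = η := by rw [hθ, IsOpenImmersion.lift_fac]
  algebraize [φ.hom, ψ.hom]
  letI : Algebra R Ω := θ.hom.toAlgebra
  haveI : Module.Finite R A := IsFinite.finite_app f U hU
  have : Algebra.Etale A Γ(W₁, ⊤) :=
    RingHom.etale_algebraMap.mp ((HasRingHomProperty.Spec_iff (P := @AlgebraicGeometry.Etale)).mp hψe)
  let mkL : (A →ₐ[R] Ω) → Lifts f η := fun x => ⟨Spec.map (CommRingCat.ofHom x.toRingHom) ≫ hA.fromSpec, by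
    rw [Category.assoc, ← hφ, ← Category.assoc, ← Spec.map_comp,
      show φ ≫ CommRingCat.ofHom x.toRingHom = θ from CommRingCat.hom_ext (RingHom.ext x.commutes), hθ']⟩
  have hβ : ∀ x, ∃ β : Γ(W₁, ⊤) ⟶ CommRingCat.of Ω, Spec.map β = w₁ (mkL x) ≫ W₁.isoSpec.hom :=
    fun x => Spec.map_surjective _
  choose β hβ using hβ
  obtain ⟨R', _, _, _, v, σ, hσ, hpt⟩ := exists_sect_pointed (R := R) (A := A) (B := Γ(W₁, ⊤)) Ω
    (fun x => (β x).hom) (fun x a => by
      have : ψ ≫ β x = CommRingCat.ofHom x.toRingHom := by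
        apply Spec.map_injective
        rw [← cancel_mono hA.fromSpec, Spec.map_comp, hψ, hβ]
        simp only [Category.assoc, Iso.hom_inv_id_assoc]
        rw [hg₂, reassoc_of% hw₁, hw]
      exact congr($this a))
  let p : Spec (CommRingCat.of R') ⟶ Y := Spec.map (CommRingCat.ofHom (algebraMap R R')) ≫ hU.fromSpec
  have hp : Etale p := by
    have : Etale (Spec.map (CommRingCat.ofHom (algebraMap R R'))) :=
      (HasRingHomProperty.Spec_iff (P := @AlgebraicGeometry.Etale)).mpr (RingHom.etale_algebraMap.mpr ‹_›)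
    infer_instance
  have h1 : IsPullback (Spec.map (CommRingCat.ofHom Algebra.TensorProduct.includeLeftRingHom) :
        Spec (CommRingCat.of (R' ⊗[R] A)) ⟶ Spec (CommRingCat.of R'))
      (Spec.map (CommRingCat.ofHom Algebra.TensorProduct.includeRight.toRingHom) :
        Spec (CommRingCat.of (R' ⊗[R] A)) ⟶ Spec A)
      (Spec.map (CommRingCat.ofHom (algebraMap R R'))) (Spec.map φ) :=
    isPullback_SpecMap_of_isPushout _ _ _ _ (CommRingCat.isPushout_tensorProduct R R' A)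
  have h2 : IsPullback (Spec.map φ) hA.fromSpec hU.fromSpec f := by
    refine IsOpenImmersion.isPullback (Spec.map φ) hA.fromSpec hU.fromSpec f hφ.symm ?_
    rw [hU.opensRange_fromSpec, hA.opensRange_fromSpec]
  have h3 := h1.paste_vert h2
  have hv : Spec.map (CommRingCat.ofHom v.toRingHom) ≫ p = η := by
    rw [← Category.assoc, ← Spec.map_comp]
    refine Eq.trans ?_ hθ'
    congr 2
    ext r
    exact v.commutes r
  refine ⟨_, p, hp, Spec.map (CommRingCat.ofHom v.toRingHom), hv,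
    h3.isoPullback.inv ≫ Spec.map (CommRingCat.ofHom σ) ≫ W₁.isoSpec.inv ≫ q, ?_, fun ξ => ?_⟩
  · simp only [Category.assoc]
    rw [← hg₂, ← Category.assoc W₁.isoSpec.inv, ← hψ, ← Category.assoc (Spec.map _), ← Spec.map_comp]
    rw [show ψ ≫ CommRingCat.ofHom σ = CommRingCat.ofHom Algebra.TensorProduct.includeRight.toRingHom from
      CommRingCat.hom_ext hσ]
    exact h3.isoPullback_inv_snd
  · obtain ⟨x₀, hx₀⟩ := Spec.map_surjective (IsOpenImmersion.lift hA.fromSpec ξ.1 (by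
      rintro _ ⟨z, rfl⟩
      rw [hA.range_fromSpec, Subsingleton.elim (α := Spec (CommRingCat.of Ω)) z default]
      show f (ξ.1 default) ∈ U
      rw [← Scheme.Hom.comp_apply, ξ.2]; exact hyU))
    have hcomm : φ ≫ x₀ = θ := by
      apply Spec.map_injective
      rw [← cancel_mono hU.fromSpec, Spec.map_comp, Category.assoc, hφ, hx₀, hθ', IsOpenImmersion.lift_fac_assoc]
      exact ξ.2
    let x : A →ₐ[R] Ω := { toRingHom := x₀.hom, commutes' := fun r => congr($hcomm r) }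
    have hx : mkL x = ξ := Subtype.ext (by
      show Spec.map x₀ ≫ hA.fromSpec = ξ.1
      rw [hx₀, IsOpenImmersion.lift_fac])
    let l : R' ⊗[R] A →+* Ω := (Algebra.TensorProduct.lift v x fun _ _ => .all _ _).toRingHom
    have hl : pullback.lift (Spec.map (CommRingCat.ofHom v.toRingHom)) ξ.1 (hv.trans ξ.2.symm) ≫
        h3.isoPullback.inv = Spec.map (CommRingCat.ofHom l) := by
      rw [Iso.comp_inv_eq]
      apply pullback.hom_ext
      · rw [pullback.lift_fst, Category.assoc, h3.isoPullback_hom_fst, ← Spec.map_comp]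
        congr 1
        ext r
        show v r = Algebra.TensorProduct.lift v x (fun _ _ => .all _ _) (r ⊗ₜ (1 : A))
        rw [Algebra.TensorProduct.lift_tmul, map_one, mul_one]
      · rw [pullback.lift_snd, Category.assoc, h3.isoPullback_hom_snd, ← Category.assoc, ← Spec.map_comp, ← hx]
        show Spec.map (CommRingCat.ofHom x.toRingHom) ≫ hA.fromSpec = _
        congr 2
        ext a
        show x a = Algebra.TensorProduct.lift v x (fun _ _ => .all _ _) ((1 : R') ⊗ₜ a)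
        rw [Algebra.TensorProduct.lift_tmul, map_one, one_mul]
    have hb : CommRingCat.ofHom σ ≫ CommRingCat.ofHom l = β x := CommRingCat.hom_ext (RingHom.ext (hpt x))
    rw [reassoc_of% hl, ← Category.assoc, ← Spec.map_comp, hb, hβ]
    simp only [Category.assoc, Iso.hom_inv_id_assoc]
    rw [hw₁, hx]

end

section

variable {X Y : Scheme.{u}} (f : X ⟶ Y) {Ω : Type u} [Field Ω] [IsSepClosed Ω]
  (η : Spec (CommRingCat.of Ω) ⟶ Y)

/-- the component of the stalk map at a lift -/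
noncomputable def stalkPushLift (G : EtCoh.Ab X) (ξ : Lifts f η) :
    (EtCoh.stalk η).obj ((EtCoh.push f).obj G) ⟶ (EtCoh.stalk ξ.1).obj G :=
  eqToHom (by rw [ξ.2]) ≫ Groth.Agent.EtPushStalk.stalkPushHom f ξ.1 G

theorem stalkPushLift_germ (G : EtCoh.Ab X) (ξ : Lifts f η) (V : Y.Etale)
    (v : Over.mk η ⟶ (Scheme.Etale.forget Y).obj V) (t : EtCoh.sect ((EtCoh.push f).obj G) V) :
    stalkPushLift f η G ξ ((Scheme.pointSmallEtale η).toPresheafFiber V v ((EtCoh.push f).obj G).obj t) =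
      (Scheme.pointSmallEtale ξ.1).toPresheafFiber ((EtCoh.bc f).obj V)
        (Groth.Agent.EtPushStalk.up f ξ.1 (Over.homMk v.left ((Over.w v).trans ξ.2.symm))) G.obj t := by
  obtain ⟨ξ, hξ⟩ := ξ
  subst hξ
  exact (Groth.Agent.EtPushStalk.stalkPushHom_germ ξ G V v t)

theorem stalkPushLift_natural {G G' : EtCoh.Ab X} (m : G ⟶ G') (ξ : Lifts f η) :
    (EtCoh.stalk η).map ((EtCoh.push f).map m) ≫ stalkPushLift f η G' ξ =
      stalkPushLift f η G ξ ≫ (EtCoh.stalk ξ.1).map m := by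
  obtain ⟨ξ, hξ⟩ := ξ
  subst hξ
  simpa [stalkPushLift] using Groth.Agent.EtPushStalk.stalkPushHom_natural ξ _ m

variable [IsFinite f] [IsAlgClosed Ω]

theorem eq_zero_of_lifts (G : EtCoh.Ab X) (z : (EtCoh.stalk η).obj ((EtCoh.push f).obj G))
    (h : ∀ ξ, stalkPushLift f η G ξ z = 0) : z = 0 := by
  obtain ⟨V, v₀, t, rfl⟩ := (Scheme.pointSmallEtale η).toPresheafFiber_jointly_surjective
    (P := ((EtCoh.push f).obj G).obj) z
  let v : Over.mk η ⟶ (Scheme.Etale.forget Y).obj V := v₀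
  let P : X.Etale := (EtCoh.bc f).obj V
  let fV : P.left ⟶ V.left := pullback.fst V.hom f
  haveI : IsFinite fV := MorphismProperty.pullback_fst _ _ ‹_›
  have hfib : ∀ c : P.left, fV c = v.left (default : Spec (CommRingCat.of Ω)) → c ∉ EtShriek.sectSupp G P t := by
    intro c hc
    obtain ⟨ζ, hζ⟩ := exists_lift_of_point fV v.left c hc
    have hζ' : (ζ.1 ≫ pullback.snd V.hom f) ≫ f = η := by
      rw [Category.assoc, ← pullback.condition, ← Category.assoc]
      exact (congrArg (· ≫ V.hom) ζ.2).trans (Over.w v)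
    have hz := h ⟨_, hζ'⟩
    rw [stalkPushLift_germ] at hz
    obtain ⟨T, g, y, hy, ht⟩ := (GrothendieckTopology.Point.toPresheafFiber_eq_iff' (P := G.obj) _ _ _ t 0).mp
      (hz.trans (map_zero _).symm)
    rw [map_zero] at ht
    refine (Groth.Agent.EtSect.mem_iff G t c).mpr ⟨T, g, ?_, ht⟩
    let y' : Over.mk (ζ.1 ≫ pullback.snd V.hom f) ⟶ (Scheme.Etale.forget X).obj T := y
    let yl : Spec (CommRingCat.of Ω) ⟶ T.left := y'.left
    refine ⟨yl default, ?_⟩
    have hy' : y'.left ≫ g.left = pullback.lift v.left (ζ.1 ≫ pullback.snd V.hom f)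
        ((Over.w v).trans hζ'.symm) := congrArg CommaMorphism.left hy
    rw [← hζ]
    show (yl ≫ g.left) (default : Spec (CommRingCat.of Ω)) = ζ.1 (default : Spec (CommRingCat.of Ω))
    rw [show yl ≫ g.left = _ from hy']
    have e : (pullback.lift v.left (ζ.1 ≫ pullback.snd V.hom f) ((Over.w v).trans hζ'.symm) :
        Spec (CommRingCat.of Ω) ⟶ pullback V.hom f) = ζ.1 := by
      apply pullback.hom_ext
      · rw [pullback.lift_fst]; exact ζ.2.symm
      · rw [pullback.lift_snd]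
    exact congr($e (default : Spec (CommRingCat.of Ω)))
  have hC : IsClosed (fV '' EtShriek.sectSupp G P t) :=
    fV.isClosedMap _ (Groth.Agent.EtSect.isClosed_sectSupp G t)
  let O : V.left.Opens := ⟨(fV '' EtShriek.sectSupp G P t)ᶜ, hC.isOpen_compl⟩
  have := V.prop
  let V' : Y.Etale := Scheme.Etale.mk (O.ι ≫ V.hom)
  let a : V' ⟶ V := MorphismProperty.Over.homMk O.ι rfl
  have hr : Set.range v.left ⊆ Set.range O.ι := by
    rintro _ ⟨c, rfl⟩
    rw [Scheme.Opens.range_ι, Subsingleton.elim (α := Spec (CommRingCat.of Ω)) c default]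
    rintro ⟨c', hc', he⟩
    exact hfib c' he hc'
  let v' : Over.mk η ⟶ (Scheme.Etale.forget Y).obj V' := Over.homMk (IsOpenImmersion.lift O.ι v.left hr) (by
    change IsOpenImmersion.lift O.ι v.left hr ≫ O.ι ≫ V.hom = η
    rw [IsOpenImmersion.lift_fac_assoc]; exact Over.w v)
  have hzero : G.obj.map ((EtCoh.bc f).map a).op t = 0 := by
    refine (Groth.Agent.EtSect.map_eq_zero_iff G t _).mpr ?_
    rintro _ ⟨c, rfl⟩ hc
    let m : pullback (O.ι ≫ V.hom) f ⟶ pullback V.hom f := ((EtCoh.bc f).map a).left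
    let c' : (pullback (O.ι ≫ V.hom) f : Scheme.{u}) := c
    let o : O.toScheme := pullback.fst (O.ι ≫ V.hom) f c'
    exact o.2 ⟨m c', hc, congr($((EtCoh.isPullback_bc_map f a).w) c')⟩
  refine ((GrothendieckTopology.Point.toPresheafFiber_eq_iff' _ _ _ t 0).mpr ⟨V', a, v', ?_, ?_⟩).trans
    (map_zero _)
  · exact Over.OverMorphism.ext (IsOpenImmersion.lift_fac _ _ _)
  · rw [map_zero]; exact hzero

theorem exists_of_lifts (G : EtCoh.Ab X) (z : ∀ ξ : Lifts f η, ((EtCoh.stalk ξ.1).obj G : AddCommGrpCat.{u + 1})) :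
    ∃ s, ∀ ξ, stalkPushLift f η G ξ s = z ξ := by
  classical
  have hz : ∀ ξ : Lifts f η, ∃ (W : X.Etale) (w : Over.mk ξ.1 ⟶ (Scheme.Etale.forget X).obj W)
      (t : EtCoh.sect G W), (Scheme.pointSmallEtale ξ.1).toPresheafFiber W w G.obj t = z ξ := fun ξ => by
    obtain ⟨W, w, t, h⟩ := (Scheme.pointSmallEtale ξ.1).toPresheafFiber_jointly_surjective (P := G.obj) (z ξ)
    exact ⟨W, w, t, h⟩
  choose W w t ht using hz
  let WW : Scheme.{u} := ∐ fun ξ => (W ξ).left
  let q : WW ⟶ X := Sigma.desc fun ξ => (W ξ).hom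
  have hq : ∀ ξ, Sigma.ι (fun ξ => (W ξ).left) ξ ≫ q = (W ξ).hom := fun ξ => Sigma.ι_desc _ _
  have : Etale q := IsZariskiLocalAtSource.sigmaDesc fun ξ => (W ξ).prop
  obtain ⟨V', p, hp, v₀, hv, s, hs, hpts⟩ := exists_section_pointed f η q
    (fun ξ => (w ξ).left ≫ Sigma.ι (fun ξ => (W ξ).left) ξ) (fun ξ => by
      rw [Category.assoc, hq]; exact Over.w (w ξ))
  let V : Y.Etale := Scheme.Etale.mk p
  let v : Over.mk η ⟶ (Scheme.Etale.forget Y).obj V := Over.homMk v₀ hv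
  let P : X.Etale := (EtCoh.bc f).obj V
  have := P.prop
  let k : P.left ⟶ WW := s
  let O : Lifts f η → P.left.Opens := fun ξ => k ⁻¹ᵁ (Sigma.ι (fun ξ => (W ξ).left) ξ).opensRange
  let Z : Lifts f η → X.Etale := fun ξ => Scheme.Etale.mk ((O ξ).ι ≫ P.hom)
  let π : ∀ ξ, Z ξ ⟶ P := fun ξ => MorphismProperty.Over.homMk (O ξ).ι rfl
  let l : ∀ ξ, (Z ξ).left ⟶ (W ξ).left := fun ξ =>
    IsOpenImmersion.lift (Sigma.ι (fun ξ => (W ξ).left) ξ) ((O ξ).ι ≫ k) (by
      rintro _ ⟨c, rfl⟩; exact c.2)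
  let L : ∀ ξ, Z ξ ⟶ W ξ := fun ξ => MorphismProperty.Over.homMk (l ξ) (by
    change l ξ ≫ (W ξ).hom = (O ξ).ι ≫ P.hom
    rw [← hq, ← Category.assoc, IsOpenImmersion.lift_fac, Category.assoc]
    exact congrArg ((O ξ).ι ≫ ·) hs)
  have : ∀ ξ, Mono (π ξ).left := fun ξ => inferInstanceAs (Mono (O ξ).ι)
  obtain ⟨r, hr⟩ := exists_amalg_disjoint G Z π (fun i j hij c d hcd => by
      let c' : (O i).toScheme := c
      let d' : (O j).toScheme := d
      have h1 : c'.1 = d'.1 := hcd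
      obtain ⟨a₁, h₁⟩ := c'.2
      obtain ⟨a₂, h₂⟩ := d'.2
      exact hij (congrArg Sigma.fst ((sigmaι_eq_iff (fun ξ => (W ξ).left) i j a₁ a₂).mp
        ((h₁.trans (congrArg k h1)).trans h₂.symm))))
    (fun c => by
      obtain ⟨x, a, ha⟩ := (sigmaOpenCover fun ξ => (W ξ).left).exists_eq (k c)
      exact ⟨x, (⟨c, ⟨a, ha⟩⟩ : O x), rfl⟩)
    (fun ξ => G.obj.map (L ξ).op (t ξ))
  refine ⟨(Scheme.pointSmallEtale η).toPresheafFiber V v ((EtCoh.push f).obj G).obj r, fun ξ => ?_⟩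
  rw [stalkPushLift_germ, ← ht ξ]
  let up := Groth.Agent.EtPushStalk.up f ξ.1
    (Over.homMk v.left ((Over.w v).trans ξ.2.symm) : Over.mk (ξ.1 ≫ f) ⟶ (Scheme.Etale.forget Y).obj V)
  have hup : up.left ≫ k = (w ξ).left ≫ Sigma.ι (fun ξ => (W ξ).left) ξ := hpts ξ
  have hupr : Set.range up.left ⊆ Set.range (O ξ).ι := by
    rintro _ ⟨c, rfl⟩
    rw [Scheme.Opens.range_ι]
    exact ⟨(w ξ).left c, congr($(hup.symm) c)⟩
  let u' : Over.mk ξ.1 ⟶ (Scheme.Etale.forget X).obj (Z ξ) := Over.homMk (IsOpenImmersion.lift (O ξ).ι up.left hupr) (by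
    change IsOpenImmersion.lift (O ξ).ι up.left hupr ≫ (O ξ).ι ≫ P.hom = ξ.1
    rw [IsOpenImmersion.lift_fac_assoc]; exact Over.w up)
  refine Eq.trans ?_ ((GrothendieckTopology.Point.toPresheafFiber_w_apply (Scheme.pointSmallEtale ξ.1) (L ξ) u'
    G.obj (t ξ)).trans ?_)
  · rw [← hr]
    refine Eq.trans ?_ (GrothendieckTopology.Point.toPresheafFiber_w_apply (Scheme.pointSmallEtale ξ.1) (π ξ) u'
      G.obj r).symm
    congr 3
    exact Over.OverMorphism.ext (IsOpenImmersion.lift_fac _ _ _).symm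
  · congr 3
    refine Over.OverMorphism.ext ?_
    change IsOpenImmersion.lift (O ξ).ι up.left hupr ≫ l ξ = (w ξ).left
    rw [← cancel_mono (Sigma.ι (fun ξ => (W ξ).left) ξ), Category.assoc, IsOpenImmersion.lift_fac,
      IsOpenImmersion.lift_fac_assoc, hup]

theorem bijective_stalkPushLifts (G : EtCoh.Ab X) :
    Function.Bijective (fun s (ξ : Lifts f η) => stalkPushLift f η G ξ s) := by
  refine ⟨fun s s' h => ?_, fun z => ?_⟩
  · rw [← sub_eq_zero]
    exact eq_zero_of_lifts f η G _ fun ξ => by rw [map_sub, sub_eq_zero]; exact congrFun h ξ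
  · obtain ⟨s, hs⟩ := exists_of_lifts f η G z
    exact ⟨s, funext hs⟩

-- the stalk is the product over the lifts
noncomputable def stalkPushPi (G : EtCoh.Ab X) :
    (EtCoh.stalk η).obj ((EtCoh.push f).obj G) ≅
      AddCommGrpCat.of (∀ ξ : Lifts f η, ((EtCoh.stalk ξ.1).obj G : AddCommGrpCat.{u + 1})) :=
  (AddEquiv.ofBijective
    (AddMonoidHom.mk' (fun s (ξ : Lifts f η) => stalkPushLift f η G ξ s)
      (fun s s' => funext fun ξ => map_add _ s s'))
    (bijective_stalkPushLifts f η G)).toAddCommGrpIso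

theorem nonempty_stalkPushCoprod (G : EtCoh.Ab X) :
    Nonempty ((EtCoh.stalk η).obj ((EtCoh.push f).obj G) ≅ ∐ fun ξ : Lifts f η => (EtCoh.stalk ξ.1).obj G) := by
  haveI := finite_lifts f η
  exact ⟨stalkPushPi f η G ≪≫
    (IsLimit.conePointUniqueUpToIso (biproduct.isLimit fun ξ : Lifts f η => (EtCoh.stalk ξ.1).obj G)
      (AddCommGrpCat.HasLimit.productLimitCone.{u, u + 1} (fun ξ : Lifts f η => (EtCoh.stalk ξ.1).obj G)).isLimit).symm ≪≫
    biproduct.isoCoproduct _⟩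

end

end Groth.Agent.EtIntegral
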