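import Groth.Agent.EtIntegral.Integral
import Groth.Agent.EtSect.Locus
import Mathlib

/-!
Étale neighbourhoods split étale covers of schemes integral over the base.
-/

set_option autoImplicit false
set_option linter.style.haveILetI false
universe u

open CategoryTheory CategoryTheory.Limits AlgebraicGeometry TensorProduct

set_option backward.isDefEq.respectTransparency false

namespace Groth.Agent.EtIntegral

theorem exists_section_nhd {X Y : Scheme.{u}} (f : X ⟶ Y) [IsIntegralHom f] {W : Scheme.{u}} (g : W ⟶ X)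
    [Etale g] {Ω : Type u} [Field Ω] [IsSepClosed Ω] (ξ : Spec (CommRingCat.of Ω) ⟶ Y)
    (hg : ∀ x : X, f x = ξ (default : Spec (CommRingCat.of Ω)) → x ∈ Set.range g) :
    ∃ (V : Scheme.{u}) (p : V ⟶ Y) (_ : Etale p) (v : Spec (CommRingCat.of Ω) ⟶ V) (_ : v ≫ p = ξ)
      (s : pullback p f ⟶ W), s ≫ g = pullback.snd p f := by
  classical
  let y := ξ (default : Spec (CommRingCat.of Ω))
  -- an affine neighbourhood over which `g` is surjective
  have hC : IsClosed (f '' (Set.range g)ᶜ) := f.isClosedMap _ g.isOpenMap.isOpen_range.isClosed_compl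
  have hy : y ∉ f '' (Set.range g)ᶜ := fun ⟨x, hx, hxy⟩ => hx (hg x hxy)
  obtain ⟨U, hU, hyU, hUC⟩ := exists_isAffineOpen_mem_and_subset (X := Y) (x := y)
    (U := ⟨(f '' (Set.range g)ᶜ)ᶜ, hC.isOpen_compl⟩) hy
  have hA : IsAffineOpen (f ⁻¹ᵁ U) := hU.preimage f
  -- finitely many affines of `W` covering the preimage
  have hcov : ∀ x : (f ⁻¹ᵁ U : X.Opens), ∃ O : W.Opens, IsAffineOpen O ∧ O ≤ g ⁻¹ᵁ (f ⁻¹ᵁ U) ∧ x.1 ∈ g '' O := by
    rintro ⟨x, hx⟩
    obtain ⟨w, rfl⟩ : x ∈ Set.range g := by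
      by_contra h
      exact hUC hx ⟨x, h, rfl⟩
    obtain ⟨O, hO, hwO, hle⟩ := exists_isAffineOpen_mem_and_subset (X := W) (x := w) (U := g ⁻¹ᵁ (f ⁻¹ᵁ U)) hx
    exact ⟨O, hO, hle, w, hwO, rfl⟩
  choose O hO hle hxO using hcov
  obtain ⟨T, hT⟩ := hA.isCompact.elim_finite_subcover (fun x => g '' (O x : Set W))
    (fun x => g.isOpenMap _ (O x).2) (fun x hx => Set.mem_iUnion.mpr ⟨⟨x, hx⟩, hxO _⟩)
  let ι : Type u := ↥T
  haveI : ∀ i : ι, IsAffine (O i.1).toScheme := fun i => hO i.1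
  let W₁ : Scheme.{u} := ∐ fun i : ι => (O i.1).toScheme
  let q : W₁ ⟶ W := Sigma.desc fun i => (O i.1).ι
  have hq : ∀ i, Sigma.ι (fun i : ι => (O i.1).toScheme) i ≫ q = (O i.1).ι := fun i => Sigma.ι_desc _ _
  have : Etale q := IsZariskiLocalAtSource.sigmaDesc fun i => inferInstanceAs (Etale (O i.1).ι)
  let R := Γ(Y, U)
  let A := Γ(X, f ⁻¹ᵁ U)
  let φ : R ⟶ A := f.app U
  have hφ : Spec.map φ ≫ hU.fromSpec = hA.fromSpec ≫ f := by
    rw [← IsAffineOpen.SpecMap_appLE_fromSpec f hU hA le_rfl]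
    simp [φ, Scheme.Hom.appLE]
  have hr : Set.range (q ≫ g) ⊆ Set.range hA.fromSpec := by
    rw [hA.range_fromSpec]
    rintro _ ⟨z, rfl⟩
    obtain ⟨i, w, rfl⟩ := (sigmaOpenCover fun i : ι => (O i.1).toScheme).exists_eq z
    change (q ≫ g) (Sigma.ι (fun i : ι => (O i.1).toScheme) i w) ∈ _
    rw [← Scheme.Hom.comp_apply, ← Category.assoc, hq]
    exact hle i.1 w.2
  let g₂ : W₁ ⟶ Spec A := IsOpenImmersion.lift hA.fromSpec (q ≫ g) hr
  have hg₂ : g₂ ≫ hA.fromSpec = q ≫ g := IsOpenImmersion.lift_fac _ _ _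
  have : Etale g₂ := by
    have : Etale (g₂ ≫ hA.fromSpec) := by rw [hg₂]; infer_instance
    exact Etale.of_comp g₂ hA.fromSpec
  let B := Γ(W₁, ⊤)
  obtain ⟨ψ, hψ⟩ := Spec.map_surjective (W₁.isoSpec.inv ≫ g₂)
  have hψe : Etale (Spec.map ψ) := by rw [hψ]; infer_instance
  obtain ⟨θ, hθ⟩ := Spec.map_surjective (IsOpenImmersion.lift hU.fromSpec ξ (by
    rintro _ ⟨z, rfl⟩
    rw [hU.range_fromSpec, Subsingleton.elim (α := Spec (CommRingCat.of Ω)) z default]
    exact hyU))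
  have hθ' : Spec.map θ ≫ hU.fromSpec = ξ := by rw [hθ, IsOpenImmersion.lift_fac]
  algebraize [φ.hom, ψ.hom]
  letI : Algebra R Ω := θ.hom.toAlgebra
  have : Algebra.IsIntegral R A := ⟨IsIntegralHom.isIntegral_app f U hU⟩
  have : Algebra.Etale A B :=
    RingHom.etale_algebraMap.mp ((HasRingHomProperty.Spec_iff (P := @AlgebraicGeometry.Etale)).mp hψe)
  obtain ⟨R', _, _, _, v, σ, hσ⟩ := exists_sect (R := R) (A := A) (B := B) Ω (by
    intro P hP hPp
    have hx : hA.fromSpec ⟨P, hP⟩ ∈ f ⁻¹ᵁ U := by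
      have : hA.fromSpec ⟨P, hP⟩ ∈ Set.range hA.fromSpec := ⟨_, rfl⟩
      rwa [hA.range_fromSpec] at this
    obtain ⟨i, hi⟩ := Set.mem_iUnion.mp (hT hx)
    obtain ⟨hiT, w, hw, hwx⟩ := Set.mem_iUnion.mp hi
    let w₁ : W₁ := Sigma.ι (fun i : ι => (O i.1).toScheme) ⟨i, hiT⟩ ⟨w, hw⟩
    refine ⟨(W₁.isoSpec.hom w₁).asIdeal, (W₁.isoSpec.hom w₁).isPrime, ?_⟩
    have h1 : Spec.map ψ (W₁.isoSpec.hom w₁) = ⟨P, hP⟩ := by
      apply hA.fromSpec.isOpenEmbedding.injective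
      rw [hψ, ← Scheme.Hom.comp_apply, ← Scheme.Hom.comp_apply, Category.assoc, Iso.hom_inv_id_assoc, hg₂, ← hwx]
      show (Sigma.ι _ _ ≫ q ≫ g) ⟨w, hw⟩ = g w
      rw [← Category.assoc, hq]
      rfl
    exact congrArg PrimeSpectrum.asIdeal h1)
  let p : Spec (CommRingCat.of R') ⟶ Y := Spec.map (CommRingCat.ofHom (algebraMap R R')) ≫ hU.fromSpec
  have hp : Etale p := by
    have : Etale (Spec.map (CommRingCat.ofHom (algebraMap R R'))) :=
      (HasRingHomProperty.Spec_iff (P := @AlgebraicGeometry.Etale)).mpr (RingHom.etale_algebraMap.mpr ‹_›)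
    infer_instance
  have h1 : IsPullback (Spec.map (CommRingCat.ofHom Algebra.TensorProduct.includeLeftRingHom) :
        Spec (CommRingCat.of (R' ⊗[R] A)) ⟶ Spec (CommRingCat.of R'))
      (Spec.map (CommRingCat.ofHom Algebra.TensorProduct.includeRight.toRingHom) :
        Spec (CommRingCat.of (R' ⊗[R] A)) ⟶ Spec A)
      (Spec.map (CommRingCat.ofHom (algebraMap R R'))) (Spec.map φ) :=
    isPullback_SpecMap_of_isPushout _ _ _ _ (CommRingCat.isPushout_tensorProduct R R' A)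
  have h2 : IsPullback (Spec.map φ) hA.fromSpec hU.fromSpec f := by
    refine IsOpenImmersion.isPullback (Spec.map φ) hA.fromSpec hU.fromSpec f hφ.symm ?_
    rw [hU.opensRange_fromSpec, hA.opensRange_fromSpec]
  have h3 := h1.paste_vert h2
  refine ⟨_, p, hp, Spec.map (CommRingCat.ofHom v.toRingHom), ?_,
    h3.isoPullback.inv ≫ Spec.map (CommRingCat.ofHom σ) ≫ W₁.isoSpec.inv ≫ q, ?_⟩
  · rw [← Category.assoc, ← Spec.map_comp]
    refine Eq.trans ?_ hθ'
    congr 2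
    ext r
    exact v.commutes r
  · simp only [Category.assoc]
    rw [← hg₂, ← Category.assoc W₁.isoSpec.inv, ← hψ, ← Category.assoc (Spec.map _), ← Spec.map_comp]
    rw [show ψ ≫ CommRingCat.ofHom σ = CommRingCat.ofHom Algebra.TensorProduct.includeRight.toRingHom from
      CommRingCat.hom_ext hσ]
    exact h3.isoPullback_inv_snd

end Groth.Agent.EtIntegral
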