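import Groth.Agent.EtSect.Locus
import Groth.Agent.EtStalk.Applications
import Groth.Prelude.Def_BigSite
import Groth.Prelude.Def_SGA4b
import Mathlib

/-!
Direct images of sheaves of sets under conditions (B) and (C).
-/

set_option autoImplicit false
universe u

open CategoryTheory CategoryTheory.Limits AlgebraicGeometry Opposite

set_option backward.isDefEq.respectTransparency false

namespace Groth.Agent.EtIntegral

variable {X Y : Scheme.{u}} (f : X ⟶ Y)

theorem sh_isSheafFor {Z : Scheme.{u}} (G : EtDesc.Sh Z) {P : Z.Etale} {ι : Type*} (W : ι → Z.Etale)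
    (π : ∀ i, W i ⟶ P) (hc : ∀ p, ∃ i, p ∈ Set.range (π i).left) :
    Presieve.IsSheafFor G.obj (Presieve.ofArrows W π) := by
  rw [Presieve.isSheafFor_iff_generate]
  refine (isSheaf_iff_isSheaf_of_type _ _).mp G.property _ ?_
  show Sieve.ofArrows W π ∈ _
  rw [Scheme.ofArrows_mem_smallEtaleTopology_iff]
  exact Set.eq_univ_of_forall fun p => Set.mem_iUnion.mpr (hc p)

theorem sh_ext {Z : Scheme.{u}} (G : EtDesc.Sh Z) {P : Z.Etale} {ι : Type*} (W : ι → Z.Etale)
    (π : ∀ i, W i ⟶ P) (hc : ∀ p, ∃ i, p ∈ Set.range (π i).left) (s s' : G.obj.obj (op P))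
    (h : ∀ i, G.obj.map (π i).op s = G.obj.map (π i).op s') : s = s' :=
  (sh_isSheafFor G W π hc).isSeparatedFor.ext fun _ _ ⟨i⟩ => h i

theorem sh_subsingleton_of_isEmpty {Z : Scheme.{u}} (G : EtDesc.Sh Z) (W : Z.Etale) (hW : IsEmpty W.left) :
    Subsingleton (G.obj.obj (op W)) :=
  ⟨fun a b => sh_ext G (fun k : PEmpty.{u + 1} => k.elim) (fun k => k.elim) (fun p => hW.elim p) a b
    (fun k => k.elim)⟩

/-- Sections of a sheaf of sets glue over disjoint open pieces. -/
theorem sh_exists_amalg {Z : Scheme.{u}} (G : EtDesc.Sh Z) {P : Z.Etale} {ι : Type*} (W : ι → Z.Etale)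
    (π : ∀ i, W i ⟶ P) [∀ i, Mono (π i).left]
    (hd : ∀ i j, i ≠ j → ∀ x y, (π i).left x ≠ (π j).left y)
    (hc : ∀ p, ∃ i, p ∈ Set.range (π i).left) (t : ∀ i, G.obj.obj (op (W i))) :
    ∃ s : G.obj.obj (op P), ∀ i, G.obj.map (π i).op s = t i := by
  have hs := sh_isSheafFor G W π hc
  rw [Presieve.isSheafFor_arrows_iff] at hs
  obtain ⟨s, hs, -⟩ := hs t (fun i k T p q hpq => by
    have hl : p.left ≫ (π i).left = q.left ≫ (π k).left := congrArg (fun m => m.left) hpq
    by_cases hik : i = k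
    · subst hik
      rw [MorphismProperty.Over.Hom.ext ((cancel_mono (π i).left).mp hl)]
    · have : IsEmpty T.left := ⟨fun x => hd i k hik _ _ (congr($hl x))⟩
      have := sh_subsingleton_of_isEmpty G T this
      exact Subsingleton.elim _ _)
  exact ⟨s, hs⟩

theorem exists_cover_of_imageSieve {Z : Scheme.{u}} {F G : EtDesc.Sh Z} (a : F ⟶ G) [Epi a] (P : Z.Etale)
    (t : G.obj.obj (op P)) :
    ∃ (W : P.left → Z.Etale) (g : ∀ x, W x ⟶ P) (y : ∀ x, F.obj.obj (op (W x))),
      (∀ x, x ∈ Set.range (g x).left) ∧ ∀ x, a.hom.app (op (W x)) (y x) = G.obj.map (g x).op t := by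
  have hls : Sheaf.IsLocallySurjective a := (Sheaf.isLocallySurjective_iff_epi' (Type (u + 1)) a).mpr inferInstance
  have hS : Presheaf.imageSieve a.hom t ∈ Z.smallEtaleTopology P :=
    Presheaf.imageSieve_mem Z.smallEtaleTopology a.hom t
  obtain ⟨α, T, g, hg⟩ := (Presheaf.imageSieve a.hom t).exists_eq_ofArrows
  rw [hg, Scheme.ofArrows_mem_smallEtaleTopology_iff] at hS
  have hx : ∀ x : P.left, ∃ i, x ∈ Set.range (g i).left := fun x => Set.mem_iUnion.mp (hS ▸ Set.mem_univ x)
  choose i hi using hx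
  have hy : ∀ x, ∃ y, a.hom.app (op (T (i x))) y = G.obj.map (g (i x)).op t := fun x => by
    have : (Presheaf.imageSieve a.hom t).arrows (g (i x)) := by
      rw [hg]; exact Sieve.ofArrows_mk _ _ _
    exact this
  choose y hy using hy
  exact ⟨fun x => T (i x), fun x => g (i x), y, hi, hy⟩

theorem pushSh_preservesEpi (hB : BigSite.PropB f) : (EtDesc.pushSh f).PreservesEpimorphisms := by
  refine ⟨fun {F G} a ha => ?_⟩
  refine (Sheaf.isLocallySurjective_iff_epi' (Type (u + 1)) _).mp ⟨fun {U} t => ?_⟩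
  let v : U.left ⟶ Y := U.hom
  have hv : Etale v := U.prop
  let e : pullback v f ≅ pullback f v := pullbackSymmetry v f
  obtain ⟨W, g, y, hsurj, hy⟩ := exists_cover_of_imageSieve a ((EtCoh.bc f).obj U) t
  let q : ∀ x, (W x).left ⟶ pullback v f := fun x => (g x).left
  obtain ⟨κ, V', v', hv', hcov, hpieces⟩ := hB U.left v (pullback v f : Scheme.{u}) (fun x => (W x).left)
    (fun x => q x ≫ e.hom)
    (fun x => by have : Etale (q x) := Groth.Agent.EtSect.etale_left (g x); infer_instance)
    (fun z => ⟨e.inv z, by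
      obtain ⟨c, hc⟩ := hsurj (e.inv z)
      refine ⟨c, ?_⟩
      rw [Scheme.Hom.comp_apply, show q (e.inv z) c = e.inv z from hc]
      exact congr($(e.inv_hom_id) z)⟩)
  let V'' : κ → Y.Etale := fun j => haveI := hv' j; Scheme.Etale.mk (v' j ≫ v)
  let b : ∀ j, V'' j ⟶ U := fun j => MorphismProperty.Over.homMk (v' j) rfl
  have key : ∀ j, ∃ s, a.hom.app (op ((EtCoh.bc f).obj (V'' j))) s = G.obj.map ((EtCoh.bc f).map (b j)).op t := by
    intro j
    have := hv' j
    obtain ⟨μ, O, hd, htop, hfac⟩ := hpieces j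
    choose i h hh using hfac
    let e' : pullback (v' j ≫ v) f ≅ pullback f (v' j ≫ v) := pullbackSymmetry (v' j ≫ v) f
    let m : pullback (v' j ≫ v) f ⟶ pullback v f := ((EtCoh.bc f).map (b j)).left
    let M := pullback.map f (v' j ≫ v) f v (𝟙 X) (v' j) (𝟙 Y) (by simp) (by simp)
    have hm : m ≫ e.hom = e'.hom ≫ M := by
      apply pullback.hom_ext
      · rw [Category.assoc, pullbackSymmetry_hom_comp_fst, Category.assoc, pullback.lift_fst, Category.comp_id,
          pullbackSymmetry_hom_comp_fst]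
        exact MorphismProperty.Over.w ((EtCoh.bc f).map (b j))
      · rw [Category.assoc, pullbackSymmetry_hom_comp_snd, Category.assoc, pullback.lift_snd,
          ← Category.assoc, pullbackSymmetry_hom_comp_snd]
        exact (EtCoh.isPullback_bc_map f (b j)).w
    let P' : X.Etale := (EtCoh.bc f).obj (V'' j)
    have := P'.prop
    let O' : μ → (pullback (v' j ≫ v) f).Opens := fun k => e'.hom ⁻¹ᵁ O k
    let p' : pullback (v' j ≫ v) f ⟶ X := pullback.snd _ _
    let Z : μ → X.Etale := fun k => Scheme.Etale.mk ((O' k).ι ≫ p')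
    let π : ∀ k, Z k ⟶ P' := fun k => MorphismProperty.Over.homMk (O' k).ι rfl
    let l : ∀ k, (O' k).toScheme ⟶ (W (i k)).left := fun k => (e'.hom ∣_ O k) ≫ h k
    have hl : ∀ k, l k ≫ q (i k) = (O' k).ι ≫ m := fun k => by
      rw [← cancel_mono e.hom, Category.assoc, Category.assoc, Category.assoc, hh, ← Category.assoc,
        morphismRestrict_ι, Category.assoc, hm]
    let L : ∀ k, Z k ⟶ W (i k) := fun k => MorphismProperty.Over.homMk (l k) (by
      change l k ≫ (W (i k)).hom = (O' k).ι ≫ p'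
      rw [← MorphismProperty.Over.w (g (i k))]
      exact (Category.assoc _ _ _).symm.trans ((congrArg (· ≫ _) (hl k)).trans ((Category.assoc _ _ _).trans
        (congrArg ((O' k).ι ≫ ·) (MorphismProperty.Over.w ((EtCoh.bc f).map (b j)))))))
    have hL : ∀ k, L k ≫ g (i k) = π k ≫ (EtCoh.bc f).map (b j) := fun k => MorphismProperty.Over.Hom.ext (hl k)
    have : ∀ k, Mono (π k).left := fun k => inferInstanceAs (Mono (O' k).ι)
    have hc : ∀ z, ∃ k, z ∈ Set.range (π k).left := fun z => by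
      let z' : (pullback (v' j ≫ v) f : Scheme.{u}) := z
      obtain ⟨k, hk⟩ := TopologicalSpace.Opens.mem_iSup.mp (show e'.hom z' ∈ ⨆ k, O k by rw [htop]; trivial)
      exact ⟨k, (⟨z', hk⟩ : O' k), rfl⟩
    obtain ⟨s, hs⟩ := sh_exists_amalg F Z π (fun k k' hkk z z' hzz => by
        let z₁ : (O' k).toScheme := z
        let z₂ : (O' k').toScheme := z'
        have h1 : z₁.1 = z₂.1 := hzz
        have hdis := disjoint_iff.mp (hd k k' hkk)
        have : e'.hom z₁.1 ∈ O k ⊓ O k' := ⟨z₁.2, h1 ▸ z₂.2⟩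
        rw [hdis] at this
        exact this)
      hc (fun k => F.obj.map (L k).op (y (i k)))
    refine ⟨s, sh_ext G Z π hc _ _ fun k => ?_⟩
    rw [← NatTrans.naturality_apply, hs, NatTrans.naturality_apply, hy,
      ← ConcreteCategory.comp_apply, ← Functor.map_comp, ← op_comp, hL, op_comp, Functor.map_comp]
    rfl
  refine GrothendieckTopology.superset_covering _ (S := Sieve.ofArrows V'' b) ?_ ?_
  · rintro Z m ⟨_, c, _, ⟨j⟩, rfl⟩
    exact Sieve.downward_closed _ (key j) c
  · rw [Scheme.ofArrows_mem_smallEtaleTopology_iff]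
    exact Set.eq_univ_of_forall fun p => Set.mem_iUnion.mpr (hcov p)

theorem pushSh_reflects (hC : BigSite.PropC f) :
    (EtDesc.pushSh f).ReflectsMonomorphisms ∧ (EtDesc.pushSh f).ReflectsEpimorphisms := by
  have cover : ∀ U : X.Etale, ∃ (V : Y.Etale) (h : (EtCoh.bc f).obj V ⟶ U),
      ∀ p, p ∈ Set.range h.left := by
    intro U
    let g : U.left ⟶ X := U.hom
    have : Etale g := U.prop
    obtain ⟨V, v, hv, h, hh, hs⟩ := hC U.left g
    let e : pullback v f ≅ pullback f v := pullbackSymmetry v f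
    refine ⟨Scheme.Etale.mk v, MorphismProperty.Over.homMk (e.hom ≫ h) ?_, fun p => ?_⟩
    · change (e.hom ≫ h) ≫ g = pullback.snd v f
      rw [Category.assoc, hh, pullbackSymmetry_hom_comp_fst]
    · obtain ⟨z, hz⟩ := h.surjective p
      refine ⟨e.inv z, ?_⟩
      change h (e.hom (e.inv z)) = p
      rw [← Scheme.Hom.comp_apply e.inv, e.inv_hom_id]
      exact hz
  constructor
  · refine ⟨fun {F G} a ha => ?_⟩
    have hinj : ∀ V : Y.Etale, Function.Injective (a.hom.app (op ((EtCoh.bc f).obj V))) := fun V => by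
      have : Mono (((sheafToPresheaf _ _).map ((EtDesc.pushSh f).map a)).app (op V)) := inferInstance
      exact (mono_iff_injective _).mp this
    have : Mono a.hom := by
      have : ∀ U, Mono (a.hom.app U) := fun U => by
        rw [mono_iff_injective]
        intro s s' hss
        obtain ⟨V, h, hsur⟩ := cover U.unop
        refine sh_ext F (fun _ : PUnit.{u + 1} => (EtCoh.bc f).obj V) (fun _ => h) (fun p => ⟨⟨⟩, hsur p⟩) s s' fun _ => ?_
        apply hinj V
        rw [NatTrans.naturality_apply, NatTrans.naturality_apply]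
        exact congrArg _ hss
      exact NatTrans.mono_of_mono_app _
    exact (sheafToPresheaf _ _).mono_of_mono_map this
  · refine ⟨fun {F G} a ha => ?_⟩
    refine (Sheaf.isLocallySurjective_iff_epi' (Type (u + 1)) _).mp ⟨fun {U} t => ?_⟩
    obtain ⟨V, h, hsur⟩ := cover U
    obtain ⟨W, g, y, hgs, hy⟩ := exists_cover_of_imageSieve ((EtDesc.pushSh f).map a) V (G.obj.map h.op t)
    refine GrothendieckTopology.superset_covering _
      (S := Sieve.ofArrows (fun x => (EtCoh.bc f).obj (W x)) (fun x => (EtCoh.bc f).map (g x) ≫ h)) ?_ ?_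
    · rintro Z m ⟨_, c, _, ⟨x⟩, rfl⟩
      refine Sieve.downward_closed _ (f := (EtCoh.bc f).map (g x) ≫ h) ?_ c
      refine ⟨y x, ?_⟩
      refine (hy x).trans ?_
      rw [op_comp, Functor.map_comp]
      rfl
    · rw [Scheme.ofArrows_mem_smallEtaleTopology_iff]
      refine Set.eq_univ_of_forall fun p => ?_
      obtain ⟨z, rfl⟩ := hsur p
      obtain ⟨w, hw⟩ := hgs ((pullback.fst V.hom f : ((EtCoh.bc f).obj V).left ⟶ V.left) z)
      obtain ⟨c, hc, -⟩ := Scheme.Pullback.exists_preimage_pullback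
        (f := (pullback.fst V.hom f : ((EtCoh.bc f).obj V).left ⟶ V.left))
        (g := (g ((pullback.fst V.hom f : ((EtCoh.bc f).obj V).left ⟶ V.left) z)).left) z w hw.symm
      refine Set.mem_iUnion.mpr ⟨_, (EtCoh.isPullback_bc_map f (g _)).isoPullback.inv c, ?_⟩
      change h.left (((EtCoh.bc f).map (g _)).left ((EtCoh.isPullback_bc_map f (g _)).isoPullback.inv c)) = _
      exact congrArg h.left ((congr($((EtCoh.isPullback_bc_map f (g _)).isoPullback_inv_fst) c)).trans hc)

end Groth.Agent.EtIntegral
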