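import Groth.Agent.EtIntegral.Scheme
import Groth.Prelude.Def_BigSite
import Groth.Agent.FpqcDescent.Sep
import Mathlib

/-!
Conditions (A), (B), (C) for integral morphisms.
-/

set_option autoImplicit false
universe u

open CategoryTheory CategoryTheory.Limits AlgebraicGeometry

set_option backward.isDefEq.respectTransparency false

namespace Groth.Agent.EtIntegral

variable {X Y : Scheme.{u}} (f : X ⟶ Y) [IsIntegralHom f]

theorem eq_of_specializes {x x' : X} (h : x ⤳ x') (hf : f x = f x') : x = x' := by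
  obtain ⟨U, hU, hxU, -⟩ := exists_isAffineOpen_mem_and_subset (X := Y) (x := f x') (U := ⊤) trivial
  have hA : IsAffineOpen (f ⁻¹ᵁ U) := hU.preimage f
  have hx' : x' ∈ f ⁻¹ᵁ U := hxU
  have hx : x ∈ f ⁻¹ᵁ U := h.mem_open (f ⁻¹ᵁ U).2 hx'
  obtain ⟨P, hP⟩ : x ∈ Set.range hA.fromSpec := by rw [hA.range_fromSpec]; exact hx
  obtain ⟨P', hP'⟩ : x' ∈ Set.range hA.fromSpec := by rw [hA.range_fromSpec]; exact hx'
  subst hP hP'
  have hle : P.asIdeal ≤ P'.asIdeal :=
    (PrimeSpectrum.le_iff_specializes P P').mpr (hA.fromSpec.isOpenEmbedding.isInducing.specializes_iff.mp h)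
  algebraize [(f.app U).hom]
  have : Algebra.IsIntegral Γ(Y, U) Γ(X, f ⁻¹ᵁ U) := ⟨IsIntegralHom.isIntegral_app f U hU⟩
  have hφ : hA.fromSpec ≫ f = Spec.map (f.app U) ≫ hU.fromSpec := by
    rw [← IsAffineOpen.SpecMap_appLE_fromSpec f hU hA le_rfl]
    simp [Scheme.Hom.appLE]
  have hc : Spec.map (f.app U) P = Spec.map (f.app U) P' := by
    apply hU.fromSpec.isOpenEmbedding.injective
    rw [← Scheme.Hom.comp_apply, ← Scheme.Hom.comp_apply, ← hφ]
    exact hf
  rcases hle.lt_or_eq with h1 | h1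
  · exact absurd (congrArg PrimeSpectrum.asIdeal hc) (Ideal.IsIntegral.comap_lt_comap (R := Γ(Y, U)) h1).ne
  · rw [PrimeSpectrum.ext h1]

-- An etale neighbourhood on which a two-piece cover of a fibre splits.
theorem exists_split {A B : Scheme.{u}} (a : A ⟶ X) (b : B ⟶ X) [Etale a] [Etale b]
    {Ω : Type u} [Field Ω] [IsSepClosed Ω] (ξ : Spec (CommRingCat.of Ω) ⟶ Y)
    (hc : ∀ x, f x = ξ (default : Spec (CommRingCat.of Ω)) → x ∈ Set.range a ∨ x ∈ Set.range b) :
    ∃ (V : Scheme.{u}) (v : V ⟶ Y) (_ : Etale v) (v₀ : Spec (CommRingCat.of Ω) ⟶ V)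
      (W : (pullback f v).Opens) (h : W.toScheme ⟶ A),
      v₀ ≫ v = ξ ∧ IsClosed (W : Set (pullback f v : Scheme.{u})) ∧ h ≫ a = W.ι ≫ pullback.fst f v ∧
      ∀ z : (pullback f v : Scheme.{u}), z ∉ W → pullback.fst f v z ∈ Set.range b := by
  let q : A ⨿ B ⟶ X := coprod.desc a b
  have : Etale q := IsZariskiLocalAtSource.of_openCover (coprodOpenCover.{u, u} A B) (by
    rintro (⟨⟩ | ⟨⟩)
    · show Etale (coprod.inl ≫ q)
      simp [q]
      infer_instance
    · show Etale (coprod.inr ≫ q)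
      simp [q]
      infer_instance)
  have hinl : coprod.inl ≫ q = a := coprod.inl_desc a b
  have hinr : coprod.inr ≫ q = b := coprod.inr_desc a b
  obtain ⟨V, v, hv, v₀, hv₀, s, hs⟩ := exists_section_nhd f q ξ (fun x hx => by
    rcases hc x hx with ⟨c, rfl⟩ | ⟨c, rfl⟩
    · exact ⟨(coprod.inl : A ⟶ A ⨿ B) c, congr($hinl c)⟩
    · exact ⟨(coprod.inr : B ⟶ A ⨿ B) c, congr($hinr c)⟩)
  let k : pullback f v ⟶ A ⨿ B := (pullbackSymmetry f v).hom ≫ s
  have hk : k ≫ q = pullback.fst f v := by rw [Category.assoc, hs, pullbackSymmetry_hom_comp_snd]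
  let W : (pullback f v).Opens := k ⁻¹ᵁ (coprod.inl : A ⟶ A ⨿ B).opensRange
  have hC : IsClosed (Set.range (coprod.inl : A ⟶ A ⨿ B)) := by
    have h := (isCompl_range_inl_inr A B).compl_eq
    rw [← isOpen_compl_iff, h]
    exact (coprod.inr : B ⟶ A ⨿ B).isOpenEmbedding.isOpen_range
  refine ⟨V, v, hv, v₀, W, IsOpenImmersion.lift (coprod.inl : A ⟶ A ⨿ B) (W.ι ≫ k) (by
    rintro _ ⟨z, rfl⟩; exact z.2), hv₀, hC.preimage k.continuous, ?_, fun z hz => ?_⟩
  · rw [← hinl, ← Category.assoc, IsOpenImmersion.lift_fac, Category.assoc, hk]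
  · obtain ⟨c, hc⟩ : k z ∈ Set.range (coprod.inr : B ⟶ A ⨿ B) := by
      rw [← (isCompl_range_inl_inr A B).compl_eq]
      exact hz
    exact ⟨c, by rw [← hk, Scheme.Hom.comp_apply, ← hc]; exact (congr($hinr c)).symm⟩

-- An etale cover near one point of a fibre, completed to a cover of the fibre.
theorem exists_piece {U : Scheme.{u}} (g : U ⟶ X) [Etale g] (u : U) :
    ∃ (V : Scheme.{u}) (v : V ⟶ Y) (_ : Etale v) (W : (pullback f v).Opens) (h : W.toScheme ⟶ U),
      IsClosed (W : Set (pullback f v : Scheme.{u})) ∧ h ≫ g = W.ι ≫ pullback.fst f v ∧ u ∈ Set.range h ∧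
      ∀ z : (pullback f v : Scheme.{u}), pullback.fst f v z = g u → z ∈ W := by
  have := Groth.Agent.FpqcDescent.locallyQuasiFinite_of_etale g
  have hdisc : _root_.IsDiscrete (g ⁻¹' {g u}) := g.isDiscrete_preimage_singleton (g u)
  obtain ⟨O, hO, hOu⟩ := (isDiscrete_iff_forall_mem_exists_isOpen.mp hdisc) u rfl
  let O' : U.Opens := ⟨O, hO⟩
  have huO : u ∈ O' := ((Set.ext_iff.mp hOu u).mpr rfl).1
  let C : X.Opens := ⟨(closure {g u})ᶜ, isClosed_closure.isOpen_compl⟩
  obtain ⟨V, v, hv, v₀, W, h, hv₀, hW, hh, hz⟩ := exists_split f (O'.ι ≫ g) C.ι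
    (Spec.map (CommRingCat.ofHom (algebraMap (Y.residueField (f (g u))) (SeparableClosure (Y.residueField (f (g u)))))) ≫
      Y.fromSpecResidueField (f (g u)))
    (fun x hx => by
      by_cases h : x ∈ C
      · exact Or.inr ⟨⟨x, h⟩, rfl⟩
      · left
        have h1 : g u ⤳ x := specializes_iff_mem_closure.mpr (not_not.mp h)
        refine ⟨⟨u, huO⟩, eq_of_specializes f h1 ?_⟩
        rw [hx]
        exact (Y.fromSpecResidueField_apply _ _).symm)
  have hmem : ∀ z : (pullback f v : Scheme.{u}), pullback.fst f v z = g u → z ∈ W := by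
    intro z hz'
    by_contra hne
    obtain ⟨c, hc⟩ := hz z hne
    exact c.2 (by rw [show c.1 = g u from hc.trans hz']; exact subset_closure rfl)
  refine ⟨V, v, hv, W, h ≫ O'.ι, hW, by rw [Category.assoc, hh], ?_, hmem⟩
  obtain ⟨z, hz₁, -⟩ := Scheme.Pullback.exists_preimage_pullback (f := f) (g := v) (g u) (v₀ default)
    ((Y.fromSpecResidueField_apply _ _).symm.trans (congr($(hv₀.symm) default)))
  refine ⟨⟨z, hmem z hz₁⟩, ?_⟩
  refine (Set.ext_iff.mp hOu _).mp ⟨(h ⟨z, hmem z hz₁⟩).2, ?_⟩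
  show g (h ⟨z, hmem z hz₁⟩).1 = g u
  exact (congr($hh ⟨z, hmem z hz₁⟩)).trans hz₁

theorem propA : BigSite.PropA f := by
  intro U g hg u
  obtain ⟨V, v, hv, W, h, hW, hh, hu, -⟩ := exists_piece f g u
  exact ⟨V, v, hv, W, hW, h, hh, hu⟩

theorem propC (hf : Topology.IsClosedEmbedding f.base) : BigSite.PropC f := by
  intro U g hg
  have hp := fun u : U => exists_piece f g u
  choose V v hv W h hW hh hu hmem using hp
  -- only the piece `W u` is kept: remove its closed complement from `V u`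
  have hcl : ∀ u, IsClosed (pullback.snd f (v u) '' (W u : Set _)ᶜ) := fun u => by
    have : IsIntegralHom (pullback.snd f (v u)) := MorphismProperty.pullback_snd _ _ ‹_›
    exact (pullback.snd f (v u)).isClosedMap _ (W u).2.isClosed_compl
  let O : ∀ u, (V u).Opens := fun u => ⟨(pullback.snd f (v u) '' (W u : Set _)ᶜ)ᶜ, (hcl u).isOpen_compl⟩
  let VV : Scheme.{u} := ∐ fun u : U => (O u).toScheme
  let vv : VV ⟶ Y := Sigma.desc fun u => (O u).ι ≫ v u
  have hvv : ∀ u, Sigma.ι (fun u : U => (O u).toScheme) u ≫ vv = (O u).ι ≫ v u := fun u => Sigma.ι_desc _ _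
  have : Etale vv := IsZariskiLocalAtSource.sigmaDesc fun u => by
    have := hv u
    infer_instance
  let 𝒰 := Scheme.Pullback.openCoverOfRight (sigmaOpenCover fun u : U => (O u).toScheme) f vv
  let c : ∀ u, pullback f (Sigma.ι (fun u : U => (O u).toScheme) u ≫ vv) ⟶ pullback f (v u) := fun u =>
    pullback.map _ _ _ _ (𝟙 X) (O u).ι (𝟙 Y) (by simp) (by simp [hvv])
  have hcW : ∀ u, Set.range (c u) ⊆ Set.range (W u).ι := by
    rintro u _ ⟨z, rfl⟩
    rw [Scheme.Opens.range_ι]
    by_contra hne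
    apply (pullback.snd f (Sigma.ι (fun u : U => (O u).toScheme) u ≫ vv) z).2
    refine ⟨c u z, hne, ?_⟩
    rw [← Scheme.Hom.comp_apply, pullback.lift_snd]
    rfl
  let piece : ∀ u, pullback f (Sigma.ι (fun u : U => (O u).toScheme) u ≫ vv) ⟶ U := fun u =>
    IsOpenImmersion.lift (W u).ι (c u) (hcW u) ≫ h u
  have hpiece : ∀ u, piece u ≫ g = pullback.fst _ _ := fun u => by
    rw [Category.assoc, hh, ← Category.assoc, IsOpenImmersion.lift_fac, pullback.lift_fst, Category.comp_id]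
  have hcomp : ∀ i j, pullback.fst (𝒰.f i) (𝒰.f j) ≫ piece i = pullback.snd (𝒰.f i) (𝒰.f j) ≫ piece j := by
    intro i j
    by_cases hij : i = j
    · subst hij
      rw [fst_eq_snd_of_mono_eq]
    · have : IsEmpty ↥(pullback (𝒰.f i) (𝒰.f j)) := ⟨fun z => by
        have h1 := congr(pullback.snd f vv ($(pullback.condition (f := 𝒰.f i) (g := 𝒰.f j)) z))
        simp only [Scheme.Hom.comp_apply] at h1
        rw [← Scheme.Hom.comp_apply (𝒰.f i), ← Scheme.Hom.comp_apply (𝒰.f j)] at h1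
        simp [𝒰, Scheme.Pullback.openCoverOfRight] at h1
        exact hij (congrArg Sigma.fst ((sigmaι_eq_iff (fun u : U => (O u).toScheme) _ _ _ _).mp h1))⟩
      exact (isInitialOfIsEmpty (X := pullback (𝒰.f i) (𝒰.f j))).hom_ext _ _
  let H : pullback f vv ⟶ U := 𝒰.glueMorphisms piece hcomp
  refine ⟨VV, vv, inferInstance, H, ?_, ⟨fun u => ?_⟩⟩
  · refine 𝒰.hom_ext _ _ fun i => ?_
    rw [← Category.assoc, Scheme.Cover.ι_glueMorphisms, hpiece]
    simp [𝒰, Scheme.Pullback.openCoverOfRight]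
    rfl
  · obtain ⟨z, hz⟩ := hu u
    have hzO : pullback.snd f (v u) z.1 ∈ O u := by
      rintro ⟨z', hz', he⟩
      apply hz'
      refine hmem u z' (hf.injective ?_)
      have hz₁ : pullback.fst f (v u) z.1 = g u := ((congr($(hh u) z)).symm).trans (congrArg g hz)
      rw [← hz₁, ← Scheme.Hom.comp_apply, ← Scheme.Hom.comp_apply, pullback.condition,
        Scheme.Hom.comp_apply, Scheme.Hom.comp_apply, he]
    obtain ⟨p, hp₁, hp₂⟩ := Scheme.Pullback.exists_preimage_pullback (f := pullback.snd f (v u))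
      (g := (O u).ι) z.1 ⟨_, hzO⟩ rfl
    let toP : pullback (pullback.snd f (v u)) (O u).ι ⟶ pullback f (Sigma.ι (fun u : U => (O u).toScheme) u ≫ vv) :=
      pullback.lift (pullback.fst _ _ ≫ pullback.fst _ _) (pullback.snd _ _) (by
        rw [Category.assoc, pullback.condition, ← Category.assoc, pullback.condition, Category.assoc, hvv])
    refine ⟨𝒰.f u (toP p), ?_⟩
    rw [← Scheme.Hom.comp_apply, Scheme.Cover.ι_glueMorphisms]
    have hcz : c u (toP p) = z.1 := by
      have : toP ≫ c u = pullback.fst _ _ := by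
        apply pullback.hom_ext
        · simp [c, toP]
        · simp [c, toP, pullback.condition]
      rw [← hp₁]
      exact congr($this p)
    have : IsOpenImmersion.lift (W u).ι (c u) (hcW u) (toP p) = z := by
      apply (W u).ι.isOpenEmbedding.injective
      rw [← Scheme.Hom.comp_apply, IsOpenImmersion.lift_fac]
      exact hcz
    show h u (IsOpenImmersion.lift (W u).ι (c u) (hcW u) (toP p)) = u
    rw [this, hz]

theorem propB : BigSite.PropB f := by
  intro V v hv ι U g hg hcov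
  let f' : pullback f v ⟶ V := pullback.snd f v
  have : IsIntegralHom f' := MorphismProperty.pullback_snd _ _ ‹_›
  let q : ∐ U ⟶ pullback f v := Sigma.desc g
  have hq : ∀ i, Sigma.ι U i ≫ q = g i := fun i => Sigma.ι_desc _ _
  have : Etale q := IsZariskiLocalAtSource.sigmaDesc hg
  have hp := fun y : V => exists_section_nhd f' q
    (Spec.map (CommRingCat.ofHom (algebraMap (V.residueField y) (SeparableClosure (V.residueField y)))) ≫
      V.fromSpecResidueField y)
    (fun x _ => by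
      obtain ⟨i, w, hw⟩ := hcov x
      exact ⟨Sigma.ι U i w, by rw [← Scheme.Hom.comp_apply, hq]; exact hw⟩)
  choose V' p hp' v₀ hv₀ s hs using hp
  refine ⟨V, V', p, hp', fun y => ⟨y, v₀ y default, ?_⟩, fun y => ?_⟩
  · rw [← Scheme.Hom.comp_apply, hv₀, Scheme.Hom.comp_apply]
    exact V.fromSpecResidueField_apply y _
  · let M := pullback.map f (p y ≫ v) f v (𝟙 X) (p y) (𝟙 Y) (by simp) (by simp)
    let t : pullback f (p y ≫ v) ⟶ pullback (p y) f' :=
      pullback.lift (pullback.snd _ _) M (by simp [M, f'])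
    let k : pullback f (p y ≫ v) ⟶ ∐ U := t ≫ s y
    have hk : k ≫ q = M := by rw [Category.assoc, hs, pullback.lift_snd]
    refine ⟨ι, fun i => k ⁻¹ᵁ (Sigma.ι U i).opensRange, fun a b hab => ?_, ?_, fun i => ⟨i,
      IsOpenImmersion.lift (Sigma.ι U i) ((k ⁻¹ᵁ (Sigma.ι U i).opensRange).ι ≫ k) (by
        rintro _ ⟨z, rfl⟩; exact z.2), ?_⟩⟩
    · have := disjoint_opensRange_sigmaι U a b hab
      rw [disjoint_iff] at this ⊢
      rw [← Scheme.Hom.preimage_inf, this]
      exact Scheme.Hom.preimage_bot _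
    · rw [eq_top_iff]
      intro z _
      obtain ⟨i, w, hw⟩ := (sigmaOpenCover U).exists_eq (k z)
      exact TopologicalSpace.Opens.mem_iSup.mpr ⟨i, w, hw⟩
    · rw [← hq, ← Category.assoc, IsOpenImmersion.lift_fac, Category.assoc, hk]

end Groth.Agent.EtIntegral
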