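import Groth.Agent.EtIntegral.Split
import Mathlib

/-!
Étale covers of an integral algebra split étale locally around a separably closed point.
-/

set_option autoImplicit false
set_option linter.style.haveILetI false
universe u

open TensorProduct

set_option backward.isDefEq.respectTransparency false

namespace Groth.Agent.EtIntegral

/-- Points of étale algebras with values in a separable closure are rational. -/
theorem range_of_etale {R R' : Type u} [CommRing R] [CommRing R'] [Algebra R R'] [Algebra.Etale R R']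
    (Ω Ω' : Type u) [Field Ω] [IsSepClosed Ω] [Field Ω'] [Algebra R Ω] [Algebra Ω Ω'] [Algebra R Ω']
    [IsScalarTower R Ω Ω'] (v : R' →ₐ[R] Ω') (r : R') : ∃ c : Ω, algebraMap Ω Ω' c = v r := by
  let Φ : Ω ⊗[R] R' →ₐ[Ω] Ω' := Algebra.TensorProduct.lift (Algebra.ofId Ω Ω') v fun _ _ => .all _ _
  haveI : Algebra.Etale Ω (Ω ⊗[R] R') := inferInstance
  haveI := Algebra.FormallyUnramified.finite_of_free Ω (Ω ⊗[R] R')
  haveI : IsArtinianRing (Ω ⊗[R] R') := isArtinian_of_tower Ω inferInstance
  haveI : (RingHom.ker Φ).IsPrime := RingHom.ker_isPrime Φ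
  haveI : (RingHom.ker Φ).IsMaximal := (IsArtinianRing.isPrime_iff_isMaximal _).mp (RingHom.ker_isPrime Φ)
  let L := (Ω ⊗[R] R') ⧸ RingHom.ker Φ
  letI : Field L := Ideal.Quotient.field _
  haveI : Algebra.FormallyUnramified Ω L :=
    .of_surjective (Ideal.Quotient.mkₐ Ω (RingHom.ker Φ)) Ideal.Quotient.mk_surjective
  haveI : Algebra.IsSeparable Ω L := Algebra.FormallyUnramified.isSeparable Ω L
  obtain ⟨c, hc⟩ := (IsSepClosed.algebraMap_bijective Ω L).2 (Ideal.Quotient.mk _ ((1 : Ω) ⊗ₜ r))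
  refine ⟨c, ?_⟩
  rw [← Φ.commutes c]
  have h : Φ (algebraMap Ω (Ω ⊗[R] R') c) = Φ ((1 : Ω) ⊗ₜ r) := by
    rw [← sub_eq_zero, ← map_sub, ← RingHom.mem_ker, ← Ideal.Quotient.eq_zero_iff_mem, map_sub, sub_eq_zero]
    exact hc
  refine h.trans ?_
  exact (Algebra.TensorProduct.lift_tmul _ _ _ (1 : Ω) r).trans (by rw [map_one, one_mul])

/-- Main algebraic statement: an étale algebra over an integral `R`-algebra `A`, surjective over the
point `Ω`, acquires a section after an étale neighbourhood of the point. -/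
theorem exists_sect {R A B : Type u} [CommRing R] [CommRing A] [CommRing B] [Algebra R A]
    [Algebra.IsIntegral R A] [Algebra A B] [Algebra.Etale A B]
    (Ω : Type u) [Field Ω] [IsSepClosed Ω] [Algebra R Ω]
    (hB : ∀ q : Ideal A, q.IsPrime → q.comap (algebraMap R A) = RingHom.ker (algebraMap R Ω) →
      ∃ Q : Ideal B, Q.IsPrime ∧ Q.comap (algebraMap A B) = q) :
    ∃ (R' : Type u) (_ : CommRing R') (_ : Algebra R R') (_ : Algebra.Etale R R') (_ : R' →ₐ[R] Ω)
      (σ : B →+* R' ⊗[R] A),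
        σ.comp (algebraMap A B) = (Algebra.TensorProduct.includeRight : A →ₐ[R] R' ⊗[R] A).toRingHom := by
  obtain ⟨A₀, B₀, _, _, hfg, _, ⟨ε⟩⟩ := Algebra.Etale.exists_subalgebra_fg R A B
  haveI : Algebra.FiniteType R A₀ := (Subalgebra.fg_iff_finiteType A₀).mp hfg
  haveI : Algebra.IsIntegral R A₀ := ⟨fun x =>
    (isIntegral_algHom_iff A₀.val Subtype.val_injective).mp (Algebra.IsIntegral.isIntegral (x : A))⟩
  haveI : Module.Finite R A₀ := Algebra.IsIntegral.finite
  haveI : Algebra.IsIntegral A₀ A := Algebra.IsIntegral.tower_top R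
  let Ω' := AlgebraicClosure Ω
  have hker : RingHom.ker (algebraMap R Ω') = RingHom.ker (algebraMap R Ω) := by
    ext r
    rw [RingHom.mem_ker, RingHom.mem_ker, IsScalarTower.algebraMap_apply R Ω Ω', map_eq_zero]
  obtain ⟨R', _, _, _, v', σ₀, hσ₀⟩ := exists_sect_finite (R := R) (A := A₀) (B := B₀) Ω' (by
    intro q hq hqp
    obtain ⟨q', -, hq', hqq⟩ := Ideal.exists_ideal_over_prime_of_isIntegral (S := A) q ⊥ (by
      rw [← RingHom.ker_eq_comap_bot, (RingHom.injective_iff_ker_eq_bot _).1]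
      · exact bot_le
      · exact Subtype.val_injective)
    obtain ⟨Q, hQ, hQq⟩ := hB q' hq' (by
      rw [← hker, ← hqp, ← hqq, Ideal.comap_comap, ← IsScalarTower.algebraMap_eq])
    let j : B₀ →+* B := (ε.symm : A ⊗[A₀] B₀ →+* B).comp
      (Algebra.TensorProduct.includeRight : B₀ →ₐ[A₀] A ⊗[A₀] B₀).toRingHom
    refine ⟨Q.comap j, inferInstance, ?_⟩
    rw [← hqq, ← hQq, Ideal.comap_comap, Ideal.comap_comap]
    congr 1
    ext a
    show ε.symm ((1 : A) ⊗ₜ[A₀] algebraMap A₀ B₀ a) = algebraMap A B (algebraMap A₀ A a)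
    rw [← ε.symm.commutes]
    congr 1
    exact (Algebra.TensorProduct.tmul_one_eq_one_tmul a).symm)
  let T := R' ⊗[R] A
  letI : Algebra A T := Algebra.TensorProduct.includeRight.toRingHom.toAlgebra
  let m : R' ⊗[R] A₀ →ₐ[R] T := Algebra.TensorProduct.map (AlgHom.id R R') A₀.val
  letI : Algebra A₀ T := ((algebraMap A T).comp (algebraMap A₀ A)).toAlgebra
  haveI : IsScalarTower A₀ A T := .of_algebraMap_eq fun _ => rfl
  let σ₁ : B₀ →ₐ[A₀] T :=
    { toRingHom := m.toRingHom.comp σ₀
      commutes' := fun a => by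
        show m (σ₀ (algebraMap A₀ B₀ a)) = _
        rw [show σ₀ (algebraMap A₀ B₀ a) = (1 : R') ⊗ₜ a from congr($hσ₀ a)]
        exact (Algebra.TensorProduct.map_tmul _ _ (1 : R') a).trans rfl }
  let σ : A ⊗[A₀] B₀ →ₐ[A] T := Algebra.TensorProduct.lift (Algebra.ofId A T) σ₁ fun _ _ => .all _ _
  choose c hc using fun r => range_of_etale Ω Ω' v' r
  let v : R' →ₐ[R] Ω :=
    { toFun := c
      map_one' := (algebraMap Ω Ω').injective (by rw [hc, map_one, map_one])
      map_mul' := fun x y => (algebraMap Ω Ω').injective (by rw [hc, map_mul, map_mul, hc, hc])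
      map_zero' := (algebraMap Ω Ω').injective (by rw [hc, map_zero, map_zero])
      map_add' := fun x y => (algebraMap Ω Ω').injective (by rw [hc, map_add, map_add, hc, hc])
      commutes' := fun r => (algebraMap Ω Ω').injective (by
        rw [hc, v'.commutes, ← IsScalarTower.algebraMap_apply]) }
  refine ⟨R', inferInstance, inferInstance, inferInstance, v, (σ.comp ε.toAlgHom).toRingHom, ?_⟩
  ext a
  exact (σ.comp ε.toAlgHom).commutes a

end Groth.Agent.EtIntegral
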