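import Groth.Agent.Weighting.SplitAlg
import Mathlib

/-!
Étale covers of an algebra integral over `R` have sections étale-locally on `R` around a geometric point.
-/

set_option autoImplicit false
set_option linter.style.haveILetI false
universe u

open TensorProduct

set_option backward.isDefEq.respectTransparency false
set_option maxHeartbeats 1600000

namespace Groth.Agent.EtIntegral

/-- A prime over the kernel of a geometric point is the kernel of a geometric point. -/
theorem exists_algHom_of_prime {R S Ω : Type u} [CommRing R] [CommRing S] [Algebra R S]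
    [Algebra.QuasiFinite R S] [Field Ω] [IsAlgClosed Ω] [Algebra R Ω] (Q : Ideal S) [Q.IsPrime]
    (hQ : Q.comap (algebraMap R S) = RingHom.ker (algebraMap R Ω)) :
    ∃ ξ : S →ₐ[R] Ω, RingHom.ker ξ = Q := by
  let p := RingHom.ker (algebraMap R Ω)
  haveI : p.IsPrime := RingHom.ker_isPrime _
  haveI : Q.LiesOver p := ⟨hQ.symm⟩
  have hunit : p.primeCompl ≤ (IsUnit.submonoid Ω).comap (algebraMap R Ω) := fun x hx =>
    isUnit_iff_ne_zero.2 hx
  letI : Algebra p.ResidueField Ω := (Ideal.ResidueField.lift p (algebraMap R Ω) le_rfl hunit).toAlgebra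
  haveI : IsScalarTower R p.ResidueField Ω :=
    .of_algebraMap_eq fun r => (Ideal.ResidueField.lift_algebraMap p (algebraMap R Ω) le_rfl hunit r).symm
  letI := Localization.AtPrime.algebraOfLiesOver p Q
  let g : Q.ResidueField →ₐ[p.ResidueField] Ω := IsAlgClosed.lift
  refine ⟨(g.restrictScalars R).comp (IsScalarTower.toAlgHom R S Q.ResidueField), ?_⟩
  ext s
  show (g (algebraMap S Q.ResidueField s) = 0) ↔ s ∈ Q
  rw [map_eq_zero, Ideal.algebraMap_residueField_eq_zero]

theorem finite_algHom (R S Ω : Type u) [CommRing R] [CommRing S] [Algebra R S]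
    [Module.Finite R S] [Field Ω] [Algebra R Ω] : Finite (S →ₐ[R] Ω) := by
  let D := Ω ⊗[R] S
  haveI : IsArtinianRing D := isArtinian_of_tower Ω inferInstance
  let Φ : (S →ₐ[R] Ω) → (D →ₐ[Ω] Ω) := fun ξ =>
    Algebra.TensorProduct.lift (AlgHom.id Ω Ω) ξ fun _ _ => .all _ _
  let K : (S →ₐ[R] Ω) → PrimeSpectrum D := fun ξ => ⟨RingHom.ker (Φ ξ), RingHom.ker_isPrime _⟩
  refine Finite.of_injective K fun ξ ξ' h => ?_
  ext s
  have h' : RingHom.ker (Φ ξ) = RingHom.ker (Φ ξ') := congrArg PrimeSpectrum.asIdeal h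
  have hΦ : ∀ (η : S →ₐ[R] Ω) (a : Ω) (x : S), Φ η (a ⊗ₜ x) = a * η x := fun η a x =>
    Algebra.TensorProduct.lift_tmul _ _ _ a x
  have h0 : Φ ξ ((1 : Ω) ⊗ₜ s - ξ s ⊗ₜ 1) = 0 := by rw [map_sub, hΦ, hΦ]; simp
  rw [← RingHom.mem_ker, h', RingHom.mem_ker, map_sub, hΦ, hΦ, one_mul, map_one, mul_one] at h0
  exact (sub_eq_zero.1 h0).symm

/-- Finitely many pointed étale algebras are dominated by one. -/
theorem exists_common {R Ω : Type u} [CommRing R] [Field Ω] [Algebra R Ω] {ι : Type u} [Finite ι]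
    (R₁ : ι → Type u) [∀ i, CommRing (R₁ i)] [∀ i, Algebra R (R₁ i)] [∀ i, Algebra.Etale R (R₁ i)]
    (v : ∀ i, R₁ i →ₐ[R] Ω) :
    ∃ (R' : Type u) (_ : CommRing R') (_ : Algebra R R') (_ : Algebra.Etale R R') (v' : R' →ₐ[R] Ω)
      (g : ∀ i, R₁ i →ₐ[R] R'), ∀ i, v'.comp (g i) = v i := by
  classical
  haveI := Fintype.ofFinite ι
  suffices h : ∀ s : Finset ι,
      ∃ (R' : Type u) (_ : CommRing R') (_ : Algebra R R') (_ : Algebra.Etale R R') (v' : R' →ₐ[R] Ω)
        (g : ∀ i ∈ s, R₁ i →ₐ[R] R'), ∀ i hi, v'.comp (g i hi) = v i by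
    obtain ⟨R', _, _, _, v', g, hg⟩ := h Finset.univ
    exact ⟨R', inferInstance, inferInstance, inferInstance, v', fun i => g i (Finset.mem_univ i),
      fun i => hg i _⟩
  intro s
  induction s using Finset.induction_on with
  | empty =>
    exact ⟨R, inferInstance, inferInstance, inferInstance, Algebra.ofId R Ω,
      fun i hi => absurd hi (Finset.notMem_empty i), fun i hi => absurd hi (Finset.notMem_empty i)⟩
  | insert a s ha ih =>
    obtain ⟨R', _, _, _, v', g, hg⟩ := ih
    let g' : ∀ i ∈ insert a s, R₁ i →ₐ[R] R' ⊗[R] R₁ a := fun i hi =>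
      if h : i = a then h ▸ Algebra.TensorProduct.includeRight
      else Algebra.TensorProduct.includeLeft.comp (g i ((Finset.mem_insert.1 hi).resolve_left h))
    refine ⟨R' ⊗[R] R₁ a, inferInstance, inferInstance, Algebra.Etale.comp R R' _,
      Algebra.TensorProduct.lift v' (v a) fun _ _ => .all _ _, g', fun i hi => ?_⟩
    by_cases h : i = a
    · subst h
      ext x
      simp [g']
    · ext x
      simp [g', h, ← hg i ((Finset.mem_insert.1 hi).resolve_left h)]

/-- Finiteness of a finite piece survives a base change of rings. -/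
theorem finite_away_of_base_change {R₁ R' S B' : Type u} [CommRing R₁] [CommRing R'] [CommRing S] [CommRing B']
    [Algebra R₁ S] [Algebra R' B'] (g : R₁ →+* R') (G : S →+* B')
    (hG : ∀ r, G (algebraMap R₁ S r) = algebraMap R' B' (g r))
    (hspan : Submodule.span R' (Set.range G) = ⊤)
    (e : S) (he : IsIdempotentElem e) [Module.Finite R₁ (Localization.Away e)] :
    Module.Finite R' (Localization.Away (G e)) := by
  classical
  obtain ⟨t, ht⟩ := Module.Finite.fg_top (R := R₁) (M := Localization.Away e)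
  let m : Localization.Away e →+* Localization.Away (G e) := IsLocalization.Away.map _ _ G e
  have hm : ∀ z, m (algebraMap _ _ z) = algebraMap B' _ (G z) := fun z => IsLocalization.map_eq _ z
  have hms : ∀ (r : R₁) z, m (r • z) = g r • m z := by
    intro r z
    rw [Algebra.smul_def, map_mul, Algebra.smul_def, IsScalarTower.algebraMap_apply R₁ S, hm, hG,
      ← IsScalarTower.algebraMap_apply R' B' (Localization.Away (G e))]
  have hu : algebraMap B' (Localization.Away (G e)) (G e) = 1 :=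
    (IsIdempotentElem.iff_eq_one_of_isUnit (IsLocalization.Away.algebraMap_isUnit (G e))).mp
      ((he.map G).map _)
  refine ⟨⟨t.image m, ?_⟩⟩
  rw [eq_top_iff]
  rintro z -
  obtain ⟨⟨b, ⟨_, k, rfl⟩⟩, hb⟩ := IsLocalization.surj (Submonoid.powers (G e)) z
  have hz : z = algebraMap B' _ b := by simpa [hu] using hb
  rw [hz]
  have hb' : b ∈ Submodule.span R' (Set.range G) := by rw [hspan]; trivial
  refine Submodule.span_induction (p := fun b _ => algebraMap B' (Localization.Away (G e)) b ∈ _) ?_ ?_ ?_ ?_ hb'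
  · rintro _ ⟨w, rfl⟩
    rw [← hm]
    have h : algebraMap S (Localization.Away e) w ∈ Submodule.span R₁ (t : Set (Localization.Away e)) := by
      rw [ht]; trivial
    refine Submodule.span_induction (p := fun z _ => m z ∈ _) ?_ ?_ ?_ ?_ h
    · exact fun z hz => Submodule.subset_span (by simpa using ⟨z, hz, rfl⟩)
    · simp
    · intro x y _ _ hx hy; rw [map_add]; exact add_mem hx hy
    · intro r x _ hx; rw [hms]; exact Submodule.smul_mem _ _ hx
  · simp
  · intro x y _ _ hx hy; rw [map_add]; exact add_mem hx hy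
  · intro r x _ hx
    rw [Algebra.smul_def, map_mul, ← IsScalarTower.algebraMap_apply, ← Algebra.smul_def]
    exact Submodule.smul_mem _ _ hx

/-- A point of a finite product factors through a factor. -/
theorem exists_factor {A' Ω : Type u} [CommRing A'] [CommRing Ω] [IsDomain Ω] [Algebra A' Ω] {ι : Type u}
    [Finite ι] (L : ι → Type u) [∀ i, CommRing (L i)] [∀ i, Algebra A' (L i)]
    (θ : (∀ i, L i) →ₐ[A'] Ω) : ∃ (i : ι) (φ : L i →ₐ[A'] Ω), θ = φ.comp (Pi.evalAlgHom A' L i) := by
  classical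
  haveI := Fintype.ofFinite ι
  have hsum : ∑ i, θ (Pi.single i 1) = 1 := by
    rw [← map_sum, show ∑ i, Pi.single i (1 : L i) = 1 from Finset.univ_sum_single (fun i => (1 : L i))]
    exact map_one θ
  obtain ⟨i, hi⟩ : ∃ i, θ (Pi.single i 1) ≠ 0 := by
    by_contra h
    push_neg at h
    simp [h] at hsum
  have h1 : θ (Pi.single i 1) = 1 := by
    refine (IsIdempotentElem.iff_eq_zero_or_one.1 ?_).resolve_left hi
    refine IsIdempotentElem.map ?_ θ
    rw [IsIdempotentElem, ← Pi.single_mul, mul_one]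
  refine ⟨i, AlgHom.ofLinearMap (θ.toLinearMap.comp (LinearMap.single A' L i)) h1 (fun x y => ?_), ?_⟩
  · simp only [LinearMap.comp_apply, LinearMap.coe_single, AlgHom.toLinearMap_apply]
    rw [← map_mul, ← Pi.single_mul]
  · ext x
    show θ x = θ (Pi.single i (x i))
    have : Pi.single i (x i) = x * Pi.single i (1 : L i) := by
      ext j
      by_cases hj : j = i
      · subst hj; simp
      · simp [hj]
    rw [this, map_mul, h1, mul_one]

/-- A finite etale algebra with exactly one point over a geometric point has rank one there. -/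
theorem rankAtStalk_eq_one {A' C Ω : Type u} [CommRing A'] [CommRing C] [Algebra A' C] [Algebra.Etale A' C]
    [Module.Finite A' C] [Field Ω] [IsAlgClosed Ω] [Algebra A' Ω] [Nonempty (C →ₐ[A'] Ω)]
    [Subsingleton (C →ₐ[A'] Ω)] (q : PrimeSpectrum A') (hq : q.asIdeal = RingHom.ker (algebraMap A' Ω)) :
    Module.rankAtStalk (R := A') C q = 1 := by
  let D := Ω ⊗[A'] C
  haveI : Algebra.Etale Ω D := inferInstance
  haveI : Module.Finite Ω D := inferInstance
  let φ : D →ₐ[Ω] Ω := Algebra.TensorProduct.lift (AlgHom.id Ω Ω)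
    (Classical.arbitrary (C →ₐ[A'] Ω)) fun _ _ => .all _ _
  haveI : Subsingleton (D →ₐ[Ω] Ω) := ⟨fun θ θ' => by
    apply Algebra.TensorProduct.ext (Subsingleton.elim _ _)
    exact Subsingleton.elim _ _⟩
  haveI : Nonempty (PrimeSpectrum D) := ⟨⟨RingHom.ker φ, RingHom.ker_isPrime φ⟩⟩
  haveI : Subsingleton (PrimeSpectrum D) := by
    refine ⟨fun Q₁ Q₂ => ?_⟩
    have hker : RingHom.ker (algebraMap Ω Ω) = ⊥ :=
      (RingHom.injective_iff_ker_eq_bot _).1 (algebraMap Ω Ω).injective
    have hpt : ∀ Q : PrimeSpectrum D, ∃ θ : D →ₐ[Ω] Ω, RingHom.ker θ = Q.asIdeal := fun Q =>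
      exists_algHom_of_prime (R := Ω) (S := D) (Ω := Ω) Q.asIdeal (by
        rw [hker]
        exact (Ideal.eq_bot_or_top _).resolve_right (Ideal.IsPrime.ne_top inferInstance))
    obtain ⟨θ₁, h₁⟩ := hpt Q₁
    obtain ⟨θ₂, h₂⟩ := hpt Q₂
    apply PrimeSpectrum.ext
    rw [← h₁, ← h₂, Subsingleton.elim θ₁ θ₂]
  haveI : Unique (PrimeSpectrum D) := uniqueOfSubsingleton (Classical.arbitrary _)
  have hD : Module.finrank Ω D = 1 := by
    haveI := Fintype.ofFinite (PrimeSpectrum D)
    rw [(Algebra.FormallyEtale.equivPiOfIsSepClosed Ω D).toLinearEquiv.finrank_eq, Module.finrank_pi,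
      Fintype.card_unique]
  have := Module.rankAtStalk_baseChange (R := A') (M := C) (⊥ : PrimeSpectrum Ω)
  rw [Module.rankAtStalk_eq_finrank_of_free] at this
  simp only [Pi.natCast_apply, Nat.cast_id] at this
  have hq' : (⊥ : PrimeSpectrum Ω).comap (algebraMap A' Ω) = q := by
    ext1
    rw [hq]
    rfl
  rw [hq'] at this
  exact this.symm.trans hD

/-- A finite etale algebra of rank one over the fibre has a section near the fibre. -/
theorem exists_retraction {R' A' C : Type u} [CommRing R'] [CommRing A'] [Algebra R' A'] [Module.Finite R' A']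
    [CommRing C] [Algebra A' C] [Algebra.Etale A' C] [Module.Finite A' C] (P : Ideal R') [P.IsPrime]
    (h : ∀ q : PrimeSpectrum A', q.asIdeal.comap (algebraMap R' A') = P → Module.rankAtStalk (R := A') C q = 1) :
    ∃ f ∉ P, ∀ (A'' : Type u) [CommRing A''] [Algebra A' A''],
      IsUnit (algebraMap A' A'' (algebraMap R' A' f)) → Nonempty (C →ₐ[A'] A'') := by
  let Z : Set (PrimeSpectrum A') := {q | Module.rankAtStalk (R := A') C q ≠ 1}
  haveI : Module.FinitePresentation A' C := Module.FinitePresentation.of_finite_of_finitePresentation _ _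
  have hZ : IsClosed Z := by
    rw [← isOpen_compl_iff]
    simpa [Z, Set.compl_ofPred, Set.preimage, not_not] using
      (Module.isLocallyConstant_rankAtStalk (R := A') (M := C)).isOpen_fiber 1
  have hY : IsClosed (PrimeSpectrum.comap (algebraMap R' A') '' Z) :=
    (PrimeSpectrum.isClosedMap_comap_of_isIntegral (algebraMap R' A')
      Algebra.IsIntegral.isIntegral) _ hZ
  have hP : (⟨P, inferInstance⟩ : PrimeSpectrum R') ∉ PrimeSpectrum.comap (algebraMap R' A') '' Z := by
    rintro ⟨q, hqZ, hq⟩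
    exact hqZ (h q (congrArg PrimeSpectrum.asIdeal hq))
  obtain ⟨_, ⟨f, rfl⟩, hfP, hfY⟩ :=
    PrimeSpectrum.isTopologicalBasis_basic_opens.exists_subset_of_mem_open hP hY.isOpen_compl
  refine ⟨f, hfP, fun A'' _ _ hu => ?_⟩
  have hr'' : Module.rankAtStalk (R := A'') (A'' ⊗[A'] C) = 1 := by
    ext q
    rw [Module.rankAtStalk_baseChange, Pi.one_apply]
    by_contra hne
    refine hfY ?_ ⟨q.comap (algebraMap A' A''), hne, rfl⟩
    show f ∈ (q.asIdeal.comap (algebraMap A' A'')).comap (algebraMap R' A') → False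
    intro hf
    exact q.isPrime.ne_top (Ideal.eq_top_of_isUnit_mem _ hf hu)
  let ε : A'' ≃ₐ[A''] A'' ⊗[A'] C := AlgEquiv.ofBijective (Algebra.ofId A'' (A'' ⊗[A'] C))
    (Module.algebraMap_bijective_of_rankAtStalk hr'')
  exact ⟨(ε.symm.toAlgHom.restrictScalars A').comp Algebra.TensorProduct.includeRight⟩

attribute [local instance] Algebra.TensorProduct.rightAlgebra

/-- Finite case, through prescribed points. -/
theorem exists_sect_pointed {R A B : Type u} [CommRing R] [CommRing A] [CommRing B] [Algebra R A]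
    [Module.Finite R A] [Algebra A B] [Algebra.Etale A B]
    (Ω : Type u) [Field Ω] [IsAlgClosed Ω] [Algebra R Ω]
    (η : (A →ₐ[R] Ω) → (B →+* Ω)) (hη : ∀ ξ a, η ξ (algebraMap A B a) = ξ a) :
    ∃ (R' : Type u) (_ : CommRing R') (_ : Algebra R R') (_ : Algebra.Etale R R') (v : R' →ₐ[R] Ω)
      (σ : B →+* R' ⊗[R] A),
        σ.comp (algebraMap A B) = (Algebra.TensorProduct.includeRight : A →ₐ[R] R' ⊗[R] A).toRingHom ∧
        ∀ ξ b, Algebra.TensorProduct.lift v ξ (fun _ _ => .all _ _) (σ b) = η ξ b := by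
  classical
  letI : Algebra R B := .compHom B (algebraMap R A)
  haveI : IsScalarTower R A B := .of_algebraMap_eq' rfl
  haveI : Algebra.FiniteType R B := Algebra.FiniteType.trans (S := A) inferInstance inferInstance
  haveI : Algebra.QuasiFinite R B := .trans R A B
  -- lift all geometric points
  haveI := finite_algHom R A Ω
  let ηR : (A →ₐ[R] Ω) → (B →ₐ[R] Ω) := fun ξ =>
    { toRingHom := η ξ
      commutes' := fun r => by
        show η ξ (algebraMap A B (algebraMap R A r)) = _
        rw [hη]; exact ξ.commutes r }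
  have hsplit := fun ξ : A →ₐ[R] Ω => Groth.Agent.Weighting.exists_etale_split Ω (ηR ξ)
  choose R₁ _i1 _i2 _i3 v₁ e he hfin hne huniq using hsplit
  obtain ⟨R', _, _, _, v', g, hg⟩ := exists_common R₁ v₁
  let A' := R' ⊗[R] A
  let B' := A' ⊗[A] B
  let incB : B →ₐ[R] B' := (Algebra.TensorProduct.includeRight (R := A) (A := A') (B := B)).restrictScalars R
  let incR : R' →ₐ[R] B' := (IsScalarTower.toAlgHom R A' B').comp Algebra.TensorProduct.includeLeft
  let G : ∀ ξ, R₁ ξ ⊗[R] B →ₐ[R] B' := fun ξ =>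
    Algebra.TensorProduct.lift (incR.comp (g ξ)) incB fun _ _ => .all _ _
  have hG : ∀ ξ r b, G ξ (r ⊗ₜ b) = incR (g ξ r) * incB b := fun ξ r b =>
    Algebra.TensorProduct.lift_tmul _ _ _ r b
  have hA : ∀ a : A, incB (algebraMap A B a) = algebraMap A' B' ((1 : R') ⊗ₜ[R] a) := fun a =>
    (Algebra.TensorProduct.includeRight (R := A) (A := A') (B := B)).commutes a
  haveI : ∀ ξ, Module.Finite R' (Localization.Away (G ξ (e ξ))) := by
    intro ξ
    haveI := hfin ξ
    refine finite_away_of_base_change (g ξ).toRingHom (G ξ).toRingHom (fun r => ?_) ?_ (e ξ) (he ξ)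
    · show G ξ (r ⊗ₜ 1) = _
      rw [hG, map_one, mul_one]
      exact (IsScalarTower.algebraMap_apply R' A' B' (g ξ r)).symm
    · rw [eq_top_iff]
      rintro z -
      induction z using TensorProduct.induction_on with
      | zero => exact zero_mem _
      | add x y hx hy => exact add_mem hx hy
      | tmul a b =>
        induction a using TensorProduct.induction_on with
        | zero => rw [TensorProduct.zero_tmul]; exact zero_mem _
        | add x y hx hy => rw [TensorProduct.add_tmul]; exact add_mem hx hy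
        | tmul r a =>
          have : ((r ⊗ₜ[R] a) ⊗ₜ[A] b : B') = r • G ξ ((1 : R₁ ξ) ⊗ₜ (algebraMap A B a * b)) := by
            have h1 : G ξ ((1 : R₁ ξ) ⊗ₜ (algebraMap A B a * b)) = ((1 : R') ⊗ₜ[R] a) ⊗ₜ[A] b := by
              rw [hG, map_one, map_one, one_mul, map_mul, hA]
              show (((1 : R') ⊗ₜ[R] a) ⊗ₜ[A] (1 : B)) * ((1 : A') ⊗ₜ[A] b) = _
              rw [Algebra.TensorProduct.tmul_mul_tmul, mul_one, one_mul]
            rw [h1, TensorProduct.smul_tmul', TensorProduct.smul_tmul', smul_eq_mul, mul_one]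
          rw [this]
          exact Submodule.smul_mem _ _ (Submodule.subset_span ⟨_, rfl⟩)
  let C := ∀ ξ : A →ₐ[R] Ω, Localization.Away (G ξ (e ξ))
  haveI : Module.Finite A' C := Module.Finite.of_restrictScalars_finite R' A' C
  haveI : Algebra.Etale A' B' := inferInstance
  haveI : Algebra.Etale A' C := inferInstance
  haveI : (RingHom.ker v').IsPrime := RingHom.ker_isPrime v'
  -- points of the pieces
  have hpt : ∀ (ζ : A' →ₐ[R] Ω), (∀ r, ζ (r ⊗ₜ 1) = v' r) → ∀ (ξ₁ : A →ₐ[R] Ω) (θ : B' →+* Ω),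
      (∀ z, θ (algebraMap A' B' z) = ζ z) → θ (G ξ₁ (e ξ₁)) ≠ 0 →
      ξ₁ = ζ.comp Algebra.TensorProduct.includeRight ∧ ∀ b, θ (incB b) = η ξ₁ b := by
    intro ζ hζ ξ₁ θ hθ hne'
    let β : B →ₐ[R] Ω :=
      { toRingHom := θ.comp incB.toRingHom
        commutes' := fun r => by
          show θ (incB (algebraMap A B (algebraMap R A r))) = _
          rw [hA, hθ, show (1 : R') ⊗ₜ[R] algebraMap R A r = algebraMap R A' r from
            (Algebra.TensorProduct.includeRight : A →ₐ[R] A').commutes r]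
          exact ζ.commutes r }
    have key : ∀ z, θ (G ξ₁ z) = Algebra.TensorProduct.lift (v₁ ξ₁) β (fun _ _ => .all _ _) z := by
      intro z
      induction z using TensorProduct.induction_on with
      | zero => simp only [map_zero]
      | add x y hx hy => simp only [map_add, hx, hy]
      | tmul r b =>
        rw [hG, map_mul, Algebra.TensorProduct.lift_tmul]
        congr 1
        rw [← hg ξ₁]
        exact (hθ _).trans (hζ _)
    rw [key] at hne'
    have h3 : β = ηR ξ₁ := huniq ξ₁ β hne'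
    refine ⟨?_, fun b => congr($h3 b)⟩
    ext a
    rw [← hη ξ₁ a, ← show β (algebraMap A B a) = η ξ₁ (algebraMap A B a) from congr($h3 _)]
    show θ (incB (algebraMap A B a)) = _
    rw [hA, hθ]
    rfl
  have hrank : ∀ q : PrimeSpectrum A', q.asIdeal.comap (algebraMap R' A') = RingHom.ker v' →
      Module.rankAtStalk (R := A') C q = 1 := by
    intro q hq
    letI : Algebra R' Ω := v'.toAlgebra
    haveI : IsScalarTower R R' Ω := .of_algebraMap_eq fun r => (v'.commutes r).symm
    obtain ⟨ζ, hζ⟩ := exists_algHom_of_prime (R := R') (S := A') (Ω := Ω) q.asIdeal hq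
    letI : Algebra A' Ω := ζ.toAlgebra
    haveI : IsScalarTower R' A' Ω := .of_algebraMap_eq fun r => (ζ.commutes r).symm
    let ξ : A →ₐ[R] Ω := (ζ.restrictScalars R).comp Algebra.TensorProduct.includeRight
    have hζv : ∀ r, ζ.restrictScalars R (r ⊗ₜ 1) = v' r := fun r => ζ.commutes r
    letI : Algebra A Ω := ξ.toAlgebra
    haveI : IsScalarTower A A' Ω := .of_algebraMap_eq fun r => rfl
    let ηA : B →ₐ[A] Ω :=
      { toRingHom := η ξ
        commutes' := fun a => hη ξ a }
    let θ₀ : B' →ₐ[A'] Ω := Algebra.TensorProduct.lift (Algebra.ofId A' Ω) ηA fun _ _ => .all _ _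
    have hθB : ∀ b, θ₀ (incB b) = η ξ b := fun b =>
      (Algebra.TensorProduct.lift_tmul _ _ _ (1 : A') b).trans (by rw [map_one, one_mul]; rfl)
    have hθ₀ : θ₀ (G ξ (e ξ)) ≠ 0 := by
      have : ∀ z, θ₀ (G ξ z) = Algebra.TensorProduct.lift (v₁ ξ) (ηR ξ) (fun _ _ => .all _ _) z := by
        intro z
        induction z using TensorProduct.induction_on with
        | zero => simp only [map_zero]
        | add x y hx hy => simp only [map_add, hx, hy]
        | tmul r b =>
          rw [hG, map_mul, Algebra.TensorProduct.lift_tmul, hθB]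
          congr 1
          rw [← hg ξ]
          exact (θ₀.commutes _).trans (hζv _)
      rw [this]
      exact hne ξ
    have hu₀ : ∀ y : Submonoid.powers (G ξ (e ξ)), IsUnit (θ₀ y) := by
      rintro ⟨_, k, rfl⟩
      simpa using (isUnit_iff_ne_zero.2 hθ₀).pow k
    haveI : Nonempty (C →ₐ[A'] Ω) :=
      ⟨(IsLocalization.liftAlgHom (M := Submonoid.powers (G ξ (e ξ))) hu₀).comp (Pi.evalAlgHom A' _ ξ)⟩
    haveI : Subsingleton (C →ₐ[A'] Ω) := by
      suffices h : ∀ θ : C →ₐ[A'] Ω,
          θ = (IsLocalization.liftAlgHom (M := Submonoid.powers (G ξ (e ξ))) hu₀).comp (Pi.evalAlgHom A' _ ξ) by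
        exact ⟨fun a b => (h a).trans (h b).symm⟩
      intro θ
      obtain ⟨ξ₁, φ, rfl⟩ := exists_factor _ θ
      let θB : B' →ₐ[A'] Ω := φ.comp (IsScalarTower.toAlgHom A' B' _)
      have h2 : θB (G ξ₁ (e ξ₁)) ≠ 0 :=
        ((IsLocalization.Away.algebraMap_isUnit (S := Localization.Away (G ξ₁ (e ξ₁))) (G ξ₁ (e ξ₁))).map φ).ne_zero
      obtain ⟨h4, h3⟩ := hpt (ζ.restrictScalars R) hζv ξ₁ θB.toRingHom θB.commutes h2
      subst h4
      congr 1
      apply IsLocalization.algHom_ext (Submonoid.powers (G ξ (e ξ)))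
      apply Algebra.TensorProduct.ext (Subsingleton.elim _ _)
      ext b
      show θB (incB b) = IsLocalization.liftAlgHom (M := Submonoid.powers (G ξ (e ξ))) hu₀
        (algebraMap B' _ (incB b))
      rw [IsLocalization.liftAlgHom_apply, IsLocalization.lift_eq]
      exact (h3 b).trans (hθB b).symm
    exact rankAtStalk_eq_one q hζ.symm
  obtain ⟨f, hfP, hf⟩ := exists_retraction (R' := R') (A' := A') (C := C) (RingHom.ker v') hrank
  let R'' := Localization.Away f
  haveI : Algebra.Etale R R'' := Algebra.Etale.comp R R' R''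
  let A'' := R'' ⊗[R] A
  let t : A' →ₐ[R] A'' := Algebra.TensorProduct.map (IsScalarTower.toAlgHom R R' R'') (AlgHom.id R A)
  have ht : ∀ r a, t (r ⊗ₜ a) = algebraMap R' R'' r ⊗ₜ a := fun r a =>
    Algebra.TensorProduct.map_tmul _ _ r a
  letI : Algebra A' A'' := t.toRingHom.toAlgebra
  obtain ⟨ρ⟩ := hf A'' (by
    show IsUnit (t (f ⊗ₜ 1))
    rw [ht]
    exact (IsLocalization.Away.algebraMap_isUnit (S := R'') f).map
      (Algebra.TensorProduct.includeLeft : R'' →ₐ[R] A''))
  let ψ : B' →ₐ[A'] A'' := ρ.comp (AlgHom.pi fun ξ => IsScalarTower.toAlgHom A' B' _)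
  let vR : R'' →ₐ[R] Ω := IsLocalization.liftAlgHom (M := Submonoid.powers f) (f := v') (by
    rintro ⟨_, k, rfl⟩
    simpa using (isUnit_iff_ne_zero.2 (fun h => hfP (RingHom.mem_ker.2 h))).pow k)
  refine ⟨R'', inferInstance, inferInstance, inferInstance, vR, ψ.toRingHom.comp incB.toRingHom, ?_, ?_⟩
  · ext a
    show ψ (incB (algebraMap A B a)) = _
    rw [hA, ψ.commutes]
    show t ((1 : R') ⊗ₜ a) = _
    rw [ht, map_one]
    rfl
  · intro ξ b
    let ζ'' : A'' →ₐ[R] Ω := Algebra.TensorProduct.lift vR ξ fun _ _ => .all _ _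
    let ζ : A' →ₐ[R] Ω := ζ''.comp t
    have hv : ∀ r : R', vR (algebraMap R' R'' r) = v' r := fun r =>
      IsLocalization.lift_eq _ r
    have hζ : ∀ r, ζ (r ⊗ₜ 1) = v' r := fun r => by
      show ζ'' (t (r ⊗ₜ 1)) = _
      rw [ht, Algebra.TensorProduct.lift_tmul, map_one, mul_one, hv]
    letI : Algebra A' Ω := ζ.toRingHom.toAlgebra
    let ζA : A'' →ₐ[A'] Ω :=
      { toRingHom := ζ''.toRingHom
        commutes' := fun z => rfl }
    obtain ⟨ξ₁, φ, hφ⟩ := exists_factor _ (ζA.comp ρ)
    let θB : B' →+* Ω := φ.toRingHom.comp (algebraMap B' (Localization.Away (G ξ₁ (e ξ₁))))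
    have hfac : ∀ z : B', ζ'' (ψ z) = θB z := fun z =>
      congr($hφ (AlgHom.pi (fun ξ => IsScalarTower.toAlgHom A' B' (Localization.Away (G ξ (e ξ)))) z))
    have hθ : ∀ z, θB (algebraMap A' B' z) = ζ z := fun z => by
      rw [← hfac, ψ.commutes]
      rfl
    obtain ⟨h4, h3⟩ := hpt ζ hζ ξ₁ θB hθ
      ((IsLocalization.Away.algebraMap_isUnit (S := Localization.Away (G ξ₁ (e ξ₁))) (G ξ₁ (e ξ₁))).map φ).ne_zero
    have h5 : ξ₁ = ξ := by
      rw [h4]
      ext a
      show ζ'' (t ((1 : R') ⊗ₜ a)) = ξ a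
      rw [ht, Algebra.TensorProduct.lift_tmul, map_one, map_one, one_mul]
    show ζ'' (ψ (incB b)) = η ξ b
    rw [hfac, h3, h5]

/-- Finite case. -/
theorem exists_sect_finite {R A B : Type u} [CommRing R] [CommRing A] [CommRing B] [Algebra R A]
    [Module.Finite R A] [Algebra A B] [Algebra.Etale A B]
    (Ω : Type u) [Field Ω] [IsAlgClosed Ω] [Algebra R Ω]
    (hB : ∀ q : Ideal A, q.IsPrime → q.comap (algebraMap R A) = RingHom.ker (algebraMap R Ω) →
      ∃ Q : Ideal B, Q.IsPrime ∧ Q.comap (algebraMap A B) = q) :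
    ∃ (R' : Type u) (_ : CommRing R') (_ : Algebra R R') (_ : Algebra.Etale R R') (_ : R' →ₐ[R] Ω)
      (σ : B →+* R' ⊗[R] A),
        σ.comp (algebraMap A B) = (Algebra.TensorProduct.includeRight : A →ₐ[R] R' ⊗[R] A).toRingHom := by
  have hη : ∀ ξ : A →ₐ[R] Ω, ∃ η : B →+* Ω, ∀ a, η (algebraMap A B a) = ξ a := by
    intro ξ
    haveI : (RingHom.ker ξ).IsPrime := RingHom.ker_isPrime ξ
    obtain ⟨Q, hQ, hQq⟩ := hB (RingHom.ker ξ) inferInstance (by ext r; simp)
    letI : Algebra A Ω := ξ.toAlgebra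
    obtain ⟨η, -⟩ := exists_algHom_of_prime (R := A) (Ω := Ω) Q hQq
    exact ⟨η.toRingHom, fun a => η.commutes a⟩
  choose η hη using hη
  obtain ⟨R', _, _, hE, v, σ, hσ, -⟩ := exists_sect_pointed Ω η hη
  exact ⟨R', inferInstance, inferInstance, hE, v, σ, hσ⟩

end Groth.Agent.EtIntegral
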