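import Groth.Agent.EtIntegral.StalkFinite
import Groth.Agent.EtIntegral.SetPush
import Groth.Agent.EtShLib.Loc
import Mathlib

/-!
The fibre of a direct image of sheaves of sets along a finite morphism at a geometric point.
-/

set_option autoImplicit false
set_option linter.style.haveILetI false
set_option backward.isDefEq.respectTransparency false
set_option backward.isDefEq.respectTransparency.types false
set_option maxHeartbeats 1000000

universe u

open CategoryTheory CategoryTheory.Limits AlgebraicGeometry Opposite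

noncomputable section

namespace Groth.Agent.EtIntegral.SetStalk

open Groth.Agent.EtShLib (gm gm_eq_iff gm_surjective exists_common gm_map eqLoc isOpen_eqLoc eq_of_eqLoc eqLoc_map)

variable {X Y : Scheme.{u}} (f : X ⟶ Y) {Ω : Type u} [Field Ω] [IsSepClosed Ω]
  (η : Spec (CommRingCat.of Ω) ⟶ Y)

/-- the component of the fibre map at a lift -/
def pushLiftSh (G : EtDesc.Sh X) (ξ : Lifts f η) :
    (Scheme.pointSmallEtale η).presheafFiber.obj ((EtDesc.pushSh f).obj G).obj ⟶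
      (Scheme.pointSmallEtale ξ.1).presheafFiber.obj G.obj :=
  (Scheme.pointSmallEtale η).presheafFiberDesc
    (fun V v => (Scheme.pointSmallEtale ξ.1).toPresheafFiber ((EtCoh.bc f).obj V)
      (EtPushStalk.up f ξ.1 (Over.homMk (show Over.mk η ⟶ (Scheme.Etale.forget Y).obj V from v).left
        ((Over.w (show Over.mk η ⟶ (Scheme.Etale.forget Y).obj V from v)).trans ξ.2.symm))) G.obj)
    (fun {V V'} c v => by
      have h := GrothendieckTopology.Point.toPresheafFiber_w (Scheme.pointSmallEtale ξ.1)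
        ((EtCoh.bc f).map c) (EtPushStalk.up f ξ.1 (Over.homMk
          (show Over.mk η ⟶ (Scheme.Etale.forget Y).obj V from v).left
          ((Over.w (show Over.mk η ⟶ (Scheme.Etale.forget Y).obj V from v)).trans ξ.2.symm))) G.obj
      exact h.trans (by congr 1; exact EtPushStalk.up_map f ξ.1 c _))

theorem pushLiftSh_germ (G : EtDesc.Sh X) (ξ : Lifts f η) (V : Y.Etale)
    (v : Over.mk η ⟶ (Scheme.Etale.forget Y).obj V) (t : EtDesc.sect G ((EtCoh.bc f).obj V)) :
    pushLiftSh f η G ξ ((Scheme.pointSmallEtale η).toPresheafFiber V v ((EtDesc.pushSh f).obj G).obj t) =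
      (Scheme.pointSmallEtale ξ.1).toPresheafFiber ((EtCoh.bc f).obj V)
        (EtPushStalk.up f ξ.1 (Over.homMk v.left ((Over.w v).trans ξ.2.symm))) G.obj t :=
  by
  unfold pushLiftSh
  exact ConcreteCategory.congr_hom (GrothendieckTopology.Point.toPresheafFiber_presheafFiberDesc
    (Φ := Scheme.pointSmallEtale η) (P := ((EtDesc.pushSh f).obj G).obj) (φ := _) (hφ := _) V v) t

/-- the component as a natural transformation -/
def pushLiftNat (ξ : Lifts f η) :
    EtDesc.pushSh f ⋙ (Scheme.pointSmallEtale η).sheafFiber (A := Type (u + 1)) ⟶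
      (Scheme.pointSmallEtale ξ.1).sheafFiber (A := Type (u + 1)) where
  app G := pushLiftSh f η G ξ
  naturality G G' m := by
    refine ConcreteCategory.hom_ext _ _ fun z => ?_
    obtain ⟨V, v, t, rfl⟩ := gm_surjective (G := (EtDesc.pushSh f).obj G) η z
    refine (congrArg (pushLiftSh f η G' ξ) (GrothendieckTopology.Point.toPresheafFiber_naturality_apply
      (Scheme.pointSmallEtale η) ((EtDesc.pushSh f).map m).hom V v t)).trans ?_
    refine (pushLiftSh_germ f η G' ξ V v _).trans ?_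
    refine Eq.trans ?_ (congrArg ((Scheme.pointSmallEtale ξ.1).presheafFiber.map m.hom)
      (pushLiftSh_germ f η G ξ V v t)).symm
    exact (GrothendieckTopology.Point.toPresheafFiber_naturality_apply
      (Scheme.pointSmallEtale ξ.1) m.hom _ _ t).symm

variable [IsFinite f] [IsAlgClosed Ω]

theorem eq_of_lifts (G : EtDesc.Sh X) (z z' : (Scheme.pointSmallEtale η).presheafFiber.obj ((EtDesc.pushSh f).obj G).obj)
    (h : ∀ ξ, pushLiftSh f η G ξ z = pushLiftSh f η G ξ z') : z = z' := by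
  obtain ⟨V₁, v₁, t₁, rfl⟩ := gm_surjective (G := (EtDesc.pushSh f).obj G) η z
  obtain ⟨V₂, v₂, t₂, rfl⟩ := gm_surjective (G := (EtDesc.pushSh f).obj G) η z'
  obtain ⟨V, v, a₁, a₂, h₁, h₂⟩ := Groth.Agent.EtShLib.exists_common η v₁ v₂
  rw [← h₁, ← h₂, ← gm_map (G := (EtDesc.pushSh f).obj G) η a₁, ← gm_map (G := (EtDesc.pushSh f).obj G) η a₂] at h ⊢
  let s₁ : EtDesc.sect G ((EtCoh.bc f).obj V) := ((EtDesc.pushSh f).obj G).obj.map a₁.op t₁
  let s₂ : EtDesc.sect G ((EtCoh.bc f).obj V) := ((EtDesc.pushSh f).obj G).obj.map a₂.op t₂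
  let P : X.Etale := (EtCoh.bc f).obj V
  let fV : P.left ⟶ V.left := pullback.fst V.hom f
  haveI : IsFinite fV := MorphismProperty.pullback_fst _ _ ‹_›
  have hfib : ∀ c : P.left, fV c = v.left (default : Spec (CommRingCat.of Ω)) → c ∈ eqLoc G P s₁ s₂ := by
    intro c hc
    obtain ⟨ζ, hζ⟩ := exists_lift_of_point fV v.left c hc
    have hζ' : (ζ.1 ≫ pullback.snd V.hom f) ≫ f = η := by
      rw [Category.assoc, ← pullback.condition, ← Category.assoc]
      exact (congrArg (· ≫ V.hom) ζ.2).trans (Over.w v)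
    have hz : pushLiftSh f η G ⟨_, hζ'⟩ (gm η ((EtDesc.pushSh f).obj G) V v s₁) =
        pushLiftSh f η G ⟨_, hζ'⟩ (gm η ((EtDesc.pushSh f).obj G) V v s₂) := h ⟨_, hζ'⟩
    rw [pushLiftSh_germ, pushLiftSh_germ] at hz
    have key := (gm_eq_iff (G := G) (ζ.1 ≫ pullback.snd V.hom f) _ s₁ s₂).mp hz
    have e : (pullback.lift v.left (ζ.1 ≫ pullback.snd V.hom f) ((Over.w v).trans hζ'.symm) :
        Spec (CommRingCat.of Ω) ⟶ pullback V.hom f) = ζ.1 := by
      apply pullback.hom_ext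
      · rw [pullback.lift_fst]; exact ζ.2.symm
      · rw [pullback.lift_snd]
    rw [← hζ]
    exact (congr($e (default : Spec (CommRingCat.of Ω)))) ▸ key
  have hC : IsClosed (fV '' (eqLoc G P s₁ s₂)ᶜ) := fV.isClosedMap _ (isOpen_eqLoc s₁ s₂).isClosed_compl
  let O : V.left.Opens := ⟨(fV '' (eqLoc G P s₁ s₂)ᶜ)ᶜ, hC.isOpen_compl⟩
  have := V.prop
  let V' : Y.Etale := Scheme.Etale.mk (O.ι ≫ V.hom)
  let a : V' ⟶ V := MorphismProperty.Over.homMk O.ι rfl
  refine (gm_eq_iff (G := (EtDesc.pushSh f).obj G) η v _ _).mpr ⟨V', a, (Scheme.Opens.range_ι O).ge ?_, ?_⟩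
  · rintro ⟨c', hc', he⟩
    exact hc' (hfib c' he)
  · refine eq_of_eqLoc (G := G) fun c => ?_
    show c ∈ eqLoc G _ (G.obj.map ((EtCoh.bc f).map a).op s₁) (G.obj.map ((EtCoh.bc f).map a).op s₂)
    rw [eqLoc_map]
    show ((EtCoh.bc f).map a).left c ∈ eqLoc G P s₁ s₂
    by_contra hn
    let m : pullback (O.ι ≫ V.hom) f ⟶ pullback V.hom f := ((EtCoh.bc f).map a).left
    let c' : (pullback (O.ι ≫ V.hom) f : Scheme.{u}) := c
    let o : O.toScheme := pullback.fst (O.ι ≫ V.hom) f c'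
    exact o.2 ⟨m c', hn, congr($((EtCoh.isPullback_bc_map f a).w) c')⟩

theorem exists_of_lifts (G : EtDesc.Sh X) (z : ∀ ξ : Lifts f η, (Scheme.pointSmallEtale ξ.1).presheafFiber.obj G.obj) :
    ∃ s, ∀ ξ, pushLiftSh f η G ξ s = z ξ := by
  classical
  have hz : ∀ ξ : Lifts f η, ∃ (W : X.Etale) (w : Over.mk ξ.1 ⟶ (Scheme.Etale.forget X).obj W)
      (t : EtDesc.sect G W), (Scheme.pointSmallEtale ξ.1).toPresheafFiber W w G.obj t = z ξ := fun ξ => by
    obtain ⟨W, w, t, h⟩ := (Scheme.pointSmallEtale ξ.1).toPresheafFiber_jointly_surjective (P := G.obj) (z ξ)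
    exact ⟨W, w, t, h⟩
  choose W w t ht using hz
  let WW : Scheme.{u} := ∐ fun ξ => (W ξ).left
  let q : WW ⟶ X := Sigma.desc fun ξ => (W ξ).hom
  have hq : ∀ ξ, Sigma.ι (fun ξ => (W ξ).left) ξ ≫ q = (W ξ).hom := fun ξ => Sigma.ι_desc _ _
  have : Etale q := IsZariskiLocalAtSource.sigmaDesc fun ξ => (W ξ).prop
  obtain ⟨V', p, hp, v₀, hv, s, hs, hpts⟩ := exists_section_pointed f η q
    (fun ξ => (w ξ).left ≫ Sigma.ι (fun ξ => (W ξ).left) ξ) (fun ξ => by
      rw [Category.assoc, hq]; exact Over.w (w ξ))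
  let V : Y.Etale := Scheme.Etale.mk p
  let v : Over.mk η ⟶ (Scheme.Etale.forget Y).obj V := Over.homMk v₀ hv
  let P : X.Etale := (EtCoh.bc f).obj V
  have := P.prop
  let k : P.left ⟶ WW := s
  let O : Lifts f η → P.left.Opens := fun ξ => k ⁻¹ᵁ (Sigma.ι (fun ξ => (W ξ).left) ξ).opensRange
  let Z : Lifts f η → X.Etale := fun ξ => Scheme.Etale.mk ((O ξ).ι ≫ P.hom)
  let π : ∀ ξ, Z ξ ⟶ P := fun ξ => MorphismProperty.Over.homMk (O ξ).ι rfl
  let l : ∀ ξ, (Z ξ).left ⟶ (W ξ).left := fun ξ =>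
    IsOpenImmersion.lift (Sigma.ι (fun ξ => (W ξ).left) ξ) ((O ξ).ι ≫ k) (by
      rintro _ ⟨c, rfl⟩; exact c.2)
  let L : ∀ ξ, Z ξ ⟶ W ξ := fun ξ => MorphismProperty.Over.homMk (l ξ) (by
    change l ξ ≫ (W ξ).hom = (O ξ).ι ≫ P.hom
    rw [← hq, ← Category.assoc, IsOpenImmersion.lift_fac, Category.assoc]
    exact congrArg ((O ξ).ι ≫ ·) hs)
  have : ∀ ξ, Mono (π ξ).left := fun ξ => inferInstanceAs (Mono (O ξ).ι)
  obtain ⟨r, hr⟩ := sh_exists_amalg G Z π (fun i j hij c d hcd => by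
      let c' : (O i).toScheme := c
      let d' : (O j).toScheme := d
      have h1 : c'.1 = d'.1 := hcd
      obtain ⟨a₁, h₁⟩ := c'.2
      obtain ⟨a₂, h₂⟩ := d'.2
      exact hij (congrArg Sigma.fst ((sigmaι_eq_iff (fun ξ => (W ξ).left) i j a₁ a₂).mp
        ((h₁.trans (congrArg k h1)).trans h₂.symm))))
    (fun c => by
      obtain ⟨x, a, ha⟩ := (sigmaOpenCover fun ξ => (W ξ).left).exists_eq (k c)
      exact ⟨x, (⟨c, ⟨a, ha⟩⟩ : O x), rfl⟩)
    (fun ξ => G.obj.map (L ξ).op (t ξ))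
  refine ⟨(Scheme.pointSmallEtale η).toPresheafFiber V v ((EtDesc.pushSh f).obj G).obj r, fun ξ => ?_⟩
  rw [pushLiftSh_germ, ← ht ξ]
  let up := Groth.Agent.EtPushStalk.up f ξ.1
    (Over.homMk v.left ((Over.w v).trans ξ.2.symm) : Over.mk (ξ.1 ≫ f) ⟶ (Scheme.Etale.forget Y).obj V)
  have hup : up.left ≫ k = (w ξ).left ≫ Sigma.ι (fun ξ => (W ξ).left) ξ := hpts ξ
  have hupr : Set.range up.left ⊆ Set.range (O ξ).ι := by
    rintro _ ⟨c, rfl⟩
    rw [Scheme.Opens.range_ι]
    exact ⟨(w ξ).left c, congr($(hup.symm) c)⟩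
  let u' : Over.mk ξ.1 ⟶ (Scheme.Etale.forget X).obj (Z ξ) := Over.homMk (IsOpenImmersion.lift (O ξ).ι up.left hupr) (by
    change IsOpenImmersion.lift (O ξ).ι up.left hupr ≫ (O ξ).ι ≫ P.hom = ξ.1
    rw [IsOpenImmersion.lift_fac_assoc]; exact Over.w up)
  refine Eq.trans ?_ ((GrothendieckTopology.Point.toPresheafFiber_w_apply (Scheme.pointSmallEtale ξ.1) (L ξ) u'
    G.obj (t ξ)).trans ?_)
  · rw [← hr]
    refine Eq.trans ?_ (GrothendieckTopology.Point.toPresheafFiber_w_apply (Scheme.pointSmallEtale ξ.1) (π ξ) u'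
      G.obj r).symm
    congr 3
    exact Over.OverMorphism.ext (IsOpenImmersion.lift_fac _ _ _).symm
  · congr 3
    refine Over.OverMorphism.ext ?_
    change IsOpenImmersion.lift (O ξ).ι up.left hupr ≫ l ξ = (w ξ).left
    rw [← cancel_mono (Sigma.ι (fun ξ => (W ξ).left) ξ), Category.assoc, IsOpenImmersion.lift_fac,
      IsOpenImmersion.lift_fac_assoc, hup]

theorem bijective_pushLifts (G : EtDesc.Sh X) :
    Function.Bijective (fun s (ξ : Lifts f η) => pushLiftSh f η G ξ s) :=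
  ⟨fun s s' h => eq_of_lifts f η G s s' fun ξ => congrFun h ξ,
    fun z => (exists_of_lifts f η G z).elim fun s hs => ⟨s, funext hs⟩⟩

theorem nonempty_pushSh_fiber_iso :
    Nonempty (EtDesc.pushSh f ⋙ (Scheme.pointSmallEtale η).sheafFiber (A := Type (u + 1)) ≅
      ∏ᶜ fun ξ : Lifts f η => ((Scheme.pointSmallEtale ξ.1).sheafFiber (A := Type (u + 1)) : EtDesc.Sh X ⥤ Type (u + 1))) := by
  let F := fun ξ : Lifts f η => ((Scheme.pointSmallEtale ξ.1).sheafFiber (A := Type (u + 1)) : EtDesc.Sh X ⥤ Type (u + 1))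
  let ψ : EtDesc.pushSh f ⋙ (Scheme.pointSmallEtale η).sheafFiber (A := Type (u + 1)) ⟶ ∏ᶜ F :=
    Pi.lift fun ξ => pushLiftNat f η ξ
  have : ∀ G, IsIso (ψ.app G) := fun G => by
    rw [isIso_iff_bijective]
    let e : (∏ᶜ F).obj G ≅ ∏ᶜ fun ξ => (F ξ).obj G := piObjIso F G
    let t := Types.productIso.{u, u + 1} (fun ξ : Lifts f η => (F ξ).obj G)
    have hkey : ∀ s, (e ≪≫ t).hom (ψ.app G s) = fun ξ => pushLiftSh f η G ξ s := fun s => funext fun ξ => by
      have h1 : ψ ≫ Pi.π F ξ = pushLiftNat f η ξ := Pi.lift_π _ _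
      refine Eq.trans ?_ (congrArg (fun k => k.app G s) h1)
      refine (ConcreteCategory.congr_hom (Types.productIso_hom_comp_eval.{u, u + 1} (fun ξ : Lifts f η => (F ξ).obj G) ξ)
        (e.hom (ψ.app G s))).trans ?_
      exact (ConcreteCategory.congr_hom (piObjIso_hom_comp_π F G ξ) (ψ.app G s))
    have hb : Function.Bijective ((e ≪≫ t).hom : _ → _) := (isIso_iff_bijective _).mp inferInstance
    refine (Function.Bijective.of_comp_iff' hb (ψ.app G)).mp ?_
    refine (congrArg Function.Bijective ?_).mpr (bijective_pushLifts f η G)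
    exact funext hkey
  haveI : IsIso ψ := NatIso.isIso_of_isIso_app ψ
  exact ⟨asIso ψ⟩

end Groth.Agent.EtIntegral.SetStalk
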